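import Mathlib
import Cfsg.Prelude.Def_ClassicalGeometry
import Cfsg.Agent.S0764

set_option autoImplicit false

namespace Cfsg.Agent.Helper6

open Matrix

section Symp

variable {F : Type*} [Field F] {m : ℕ}

theorem sf_add_left (u u' v : Fin m ⊕ Fin m → F) :
    Cfsg.sympForm m F (u + u') v = Cfsg.sympForm m F u v + Cfsg.sympForm m F u' v := by
  simp [Cfsg.sympForm, add_dotProduct]

theorem sf_add_right (u v v' : Fin m ⊕ Fin m → F) :
    Cfsg.sympForm m F u (v + v') = Cfsg.sympForm m F u v + Cfsg.sympForm m F u v' := by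
  simp [Cfsg.sympForm, Matrix.mulVec_add, dotProduct_add]

theorem sf_sub_right (u v v' : Fin m ⊕ Fin m → F) :
    Cfsg.sympForm m F u (v - v') = Cfsg.sympForm m F u v - Cfsg.sympForm m F u v' := by
  simp [Cfsg.sympForm, Matrix.mulVec_sub, dotProduct_sub]

theorem sf_smul_right (a : F) (u v : Fin m ⊕ Fin m → F) :
    Cfsg.sympForm m F u (a • v) = a * Cfsg.sympForm m F u v := by
  simp [Cfsg.sympForm, Matrix.mulVec_smul, dotProduct_smul]

theorem sf_zero_left (v : Fin m ⊕ Fin m → F) : Cfsg.sympForm m F 0 v = 0 := by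
  simp [Cfsg.sympForm]

theorem sf_self (u : Fin m ⊕ Fin m → F) : Cfsg.sympForm m F u u = 0 :=
  Cfsg.Agent.S0764.dot_J_self m u

theorem sf_swap (u v : Fin m ⊕ Fin m → F) :
    Cfsg.sympForm m F u v = - Cfsg.sympForm m F v u := by
  have h := sf_self (u + v)
  rw [sf_add_left, sf_add_right, sf_add_right, sf_self, sf_self] at h
  linear_combination h

theorem sf_single_inl (u : Fin m ⊕ Fin m → F) (i : Fin m) :
    Cfsg.sympForm m F u (Pi.single (Sum.inl i) 1) = u (Sum.inr i) := by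
  classical
  rw [Cfsg.sympForm, Cfsg.Agent.S0764.J_mulVec, dotProduct, Fintype.sum_sum_type]
  simp [Pi.single_apply]

theorem sf_single_inr (u : Fin m ⊕ Fin m → F) (i : Fin m) :
    Cfsg.sympForm m F u (Pi.single (Sum.inr i) 1) = - u (Sum.inl i) := by
  classical
  rw [Cfsg.sympForm, Cfsg.Agent.S0764.J_mulVec, dotProduct, Fintype.sum_sum_type]
  simp [Pi.single_apply]

theorem tv_mulVec (w : Fin m ⊕ Fin m → F) (c : F) (x : Fin m ⊕ Fin m → F) :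
    Cfsg.sympTransvection m w c *ᵥ x = x + (c * Cfsg.sympForm m F x w) • w := by
  rw [Cfsg.sympTransvection, Matrix.add_mulVec, Matrix.one_mulVec, Matrix.smul_mulVec,
    Matrix.vecMulVec_mulVec, Cfsg.sympForm, dotProduct_comm x]
  ext i
  simp only [Pi.add_apply, Pi.smul_apply, MulOpposite.smul_eq_mul_unop, MulOpposite.unop_op,
    smul_eq_mul]
  ring

theorem sp_preserves (A : Matrix.symplecticGroup (Fin m) F) (x y : Fin m ⊕ Fin m → F) :
    Cfsg.sympForm m F ((A : Matrix (Fin m ⊕ Fin m) (Fin m ⊕ Fin m) F) *ᵥ x)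
      ((A : Matrix (Fin m ⊕ Fin m) (Fin m ⊕ Fin m) F) *ᵥ y) = Cfsg.sympForm m F x y := by
  have hA := SymplecticGroup.mem_iff'.mp A.2
  unfold Cfsg.sympForm
  rw [← Matrix.vecMul_transpose, ← Matrix.dotProduct_mulVec, Matrix.mulVec_mulVec,
    Matrix.mulVec_mulVec, hA]

/-- generating transvections with vector in `U` -/
def sgens (U : Submodule F (Fin m ⊕ Fin m → F)) : Set (Matrix.symplecticGroup (Fin m) F) :=
  {A | ∃ w ∈ U, ∃ c : F, (A : Matrix (Fin m ⊕ Fin m) (Fin m ⊕ Fin m) F) = Cfsg.sympTransvection m w c}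

theorem sp_coe_mul (A B : Matrix.symplecticGroup (Fin m) F) :
    ((A * B : Matrix.symplecticGroup (Fin m) F) : Matrix (Fin m ⊕ Fin m) (Fin m ⊕ Fin m) F) =
      (A : Matrix (Fin m ⊕ Fin m) (Fin m ⊕ Fin m) F) * (B : Matrix (Fin m ⊕ Fin m) (Fin m ⊕ Fin m) F) :=
  rfl

theorem sp_coe_one :
    ((1 : Matrix.symplecticGroup (Fin m) F) : Matrix (Fin m ⊕ Fin m) (Fin m ⊕ Fin m) F) = 1 :=
  rfl

theorem sstep (U : Submodule F (Fin m ⊕ Fin m → F)) (x y : Fin m ⊕ Fin m → F) (hx : x ∈ U)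
    (hy : y ∈ U) (hxy : Cfsg.sympForm m F x y ≠ 0) :
    ∃ A ∈ sgens U, (A : Matrix (Fin m ⊕ Fin m) (Fin m ⊕ Fin m) F) *ᵥ x = y ∧
      (∀ z, Cfsg.sympForm m F z (y - x) = 0 →
        (A : Matrix (Fin m ⊕ Fin m) (Fin m ⊕ Fin m) F) *ᵥ z = z) ∧
      (∀ z ∈ U, (A : Matrix (Fin m ⊕ Fin m) (Fin m ⊕ Fin m) F) *ᵥ z ∈ U) := by
  refine ⟨⟨Cfsg.sympTransvection m (y - x) (Cfsg.sympForm m F x y)⁻¹,
    Cfsg.Agent.S0764.result m _ _⟩, ⟨y - x, U.sub_mem hy hx, _, rfl⟩, ?_, ?_, ?_⟩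
  · show Cfsg.sympTransvection m (y - x) (Cfsg.sympForm m F x y)⁻¹ *ᵥ x = y
    rw [tv_mulVec, sf_sub_right, sf_self, sub_zero, inv_mul_cancel₀ hxy, one_smul]
    abel
  · intro z hz
    show Cfsg.sympTransvection m (y - x) (Cfsg.sympForm m F x y)⁻¹ *ᵥ z = z
    rw [tv_mulVec, hz, mul_zero, zero_smul, add_zero]
  · intro z hz
    show Cfsg.sympTransvection m (y - x) (Cfsg.sympForm m F x y)⁻¹ *ᵥ z ∈ U
    rw [tv_mulVec]
    exact U.add_mem hz (U.smul_mem _ (U.sub_mem hy hx))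

theorem slemma1 (U : Submodule F (Fin m ⊕ Fin m → F))
    (hU : ∀ u ∈ U, u ≠ 0 → ∃ x ∈ U, Cfsg.sympForm m F u x ≠ 0)
    (u u' : Fin m ⊕ Fin m → F) (hu : u ∈ U) (hu' : u' ∈ U) (hu0 : u ≠ 0) (hu0' : u' ≠ 0) :
    ∃ A ∈ Subgroup.closure (sgens U),
      (A : Matrix (Fin m ⊕ Fin m) (Fin m ⊕ Fin m) F) *ᵥ u = u' ∧
      (∀ z ∈ U, (A : Matrix (Fin m ⊕ Fin m) (Fin m ⊕ Fin m) F) *ᵥ z ∈ U) := by
  by_cases h : Cfsg.sympForm m F u u' = 0
  · obtain ⟨x1, hx1U, hx1⟩ := hU u hu hu0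
    obtain ⟨x2, hx2U, hx2⟩ := hU u' hu' hu0'
    have hex : ∃ x ∈ U, Cfsg.sympForm m F u x ≠ 0 ∧ Cfsg.sympForm m F u' x ≠ 0 := by
      by_cases h1 : Cfsg.sympForm m F u' x1 = 0
      · by_cases h2 : Cfsg.sympForm m F u x2 = 0
        · refine ⟨x1 + x2, U.add_mem hx1U hx2U, ?_, ?_⟩
          · rw [sf_add_right, h2, add_zero]; exact hx1
          · rw [sf_add_right, h1, zero_add]; exact hx2
        · exact ⟨x2, hx2U, h2, hx2⟩
      · exact ⟨x1, hx1U, hx1, h1⟩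
    obtain ⟨x, hxU, hux, hu'x⟩ := hex
    obtain ⟨A1, hA1, hA1u, -, hA1U⟩ := sstep U u x hu hxU hux
    have hxu' : Cfsg.sympForm m F x u' ≠ 0 := by
      rw [sf_swap]; exact neg_ne_zero.2 hu'x
    obtain ⟨A2, hA2, hA2x, -, hA2U⟩ := sstep U x u' hxU hu' hxu'
    refine ⟨A2 * A1, Subgroup.mul_mem _ (Subgroup.subset_closure hA2)
      (Subgroup.subset_closure hA1), ?_, ?_⟩
    · rw [sp_coe_mul, ← Matrix.mulVec_mulVec, hA1u, hA2x]
    · intro z hz
      rw [sp_coe_mul, ← Matrix.mulVec_mulVec]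
      exact hA2U _ (hA1U z hz)
  · obtain ⟨A, hA, hAu, -, hAU⟩ := sstep U u u' hu hu' h
    exact ⟨A, Subgroup.subset_closure hA, hAu, hAU⟩

theorem slemma2 (U : Submodule F (Fin m ⊕ Fin m → F))
    (u v v' : Fin m ⊕ Fin m → F) (hu : u ∈ U) (hv : v ∈ U) (hv' : v' ∈ U)
    (h : Cfsg.sympForm m F u v = 1) (h' : Cfsg.sympForm m F u v' = 1) :
    ∃ A ∈ Subgroup.closure (sgens U),
      (A : Matrix (Fin m ⊕ Fin m) (Fin m ⊕ Fin m) F) *ᵥ u = u ∧
      (A : Matrix (Fin m ⊕ Fin m) (Fin m ⊕ Fin m) F) *ᵥ v = v' := by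
  by_cases h0 : Cfsg.sympForm m F v v' = 0
  · have h1 : Cfsg.sympForm m F v (v + u) ≠ 0 := by
      rw [sf_add_right, sf_self, zero_add, sf_swap, h]
      exact neg_ne_zero.2 one_ne_zero
    obtain ⟨A1, hA1, hA1v, hA1fix, -⟩ := sstep U v (v + u) hv (U.add_mem hv hu) h1
    have h2 : Cfsg.sympForm m F (v + u) v' ≠ 0 := by
      rw [sf_add_left, h0, zero_add, h']
      exact one_ne_zero
    obtain ⟨A2, hA2, hA2v, hA2fix, -⟩ := sstep U (v + u) v' (U.add_mem hv hu) hv' h2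
    refine ⟨A2 * A1, Subgroup.mul_mem _ (Subgroup.subset_closure hA2)
      (Subgroup.subset_closure hA1), ?_, ?_⟩
    · rw [sp_coe_mul, ← Matrix.mulVec_mulVec]
      have e1 : (A1 : Matrix (Fin m ⊕ Fin m) (Fin m ⊕ Fin m) F) *ᵥ u = u := by
        apply hA1fix
        rw [add_sub_cancel_left, sf_self]
      rw [e1]
      apply hA2fix
      rw [sf_sub_right, sf_add_right, h, h', sf_self]
      ring
    · rw [sp_coe_mul, ← Matrix.mulVec_mulVec, hA1v, hA2v]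
  · obtain ⟨A, hA, hAv, hAfix, -⟩ := sstep U v v' hv hv' h0
    refine ⟨A, Subgroup.subset_closure hA, ?_, hAv⟩
    apply hAfix
    rw [sf_sub_right, h, h', sub_self]

theorem strans (U : Submodule F (Fin m ⊕ Fin m → F))
    (hU : ∀ u ∈ U, u ≠ 0 → ∃ x ∈ U, Cfsg.sympForm m F u x ≠ 0)
    (u v u' v' : Fin m ⊕ Fin m → F) (hu : u ∈ U) (hv : v ∈ U) (hu' : u' ∈ U) (hv' : v' ∈ U)
    (h : Cfsg.sympForm m F u v = 1) (h' : Cfsg.sympForm m F u' v' = 1) :
    ∃ A ∈ Subgroup.closure (sgens U),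
      (A : Matrix (Fin m ⊕ Fin m) (Fin m ⊕ Fin m) F) *ᵥ u = u' ∧
      (A : Matrix (Fin m ⊕ Fin m) (Fin m ⊕ Fin m) F) *ᵥ v = v' := by
  have hu0 : u ≠ 0 := by
    intro h0
    rw [h0, sf_zero_left] at h
    exact zero_ne_one h
  have hu0' : u' ≠ 0 := by
    intro h0
    rw [h0, sf_zero_left] at h'
    exact zero_ne_one h'
  obtain ⟨A1, hA1, hA1u, hA1U⟩ := slemma1 U hU u u' hu hu' hu0 hu0'
  have h1 : Cfsg.sympForm m F u' ((A1 : Matrix (Fin m ⊕ Fin m) (Fin m ⊕ Fin m) F) *ᵥ v) = 1 := by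
    rw [← hA1u, sp_preserves, h]
  obtain ⟨A2, hA2, hA2u, hA2v⟩ := slemma2 U u' _ v' hu' (hA1U v hv) hv' h1 h'
  refine ⟨A2 * A1, Subgroup.mul_mem _ hA2 hA1, ?_, ?_⟩
  · rw [sp_coe_mul, ← Matrix.mulVec_mulVec, hA1u, hA2u]
  · rw [sp_coe_mul, ← Matrix.mulVec_mulVec, hA2v]

theorem sfix_perp (U : Submodule F (Fin m ⊕ Fin m → F)) (A : Matrix.symplecticGroup (Fin m) F)
    (hA : A ∈ Subgroup.closure (sgens U)) (z : Fin m ⊕ Fin m → F)
    (hz : ∀ w ∈ U, Cfsg.sympForm m F z w = 0) :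
    (A : Matrix (Fin m ⊕ Fin m) (Fin m ⊕ Fin m) F) *ᵥ z = z := by
  induction hA using Subgroup.closure_induction with
  | mem B hB =>
    obtain ⟨w, hw, c, hB⟩ := hB
    rw [hB, tv_mulVec, hz w hw, mul_zero, zero_smul, add_zero]
  | one => rw [sp_coe_one, Matrix.one_mulVec]
  | mul B C _ _ hB hC => rw [sp_coe_mul, ← Matrix.mulVec_mulVec, hC, hB]
  | inv B _ hB =>
    have h1 : ((B⁻¹ * B : Matrix.symplecticGroup (Fin m) F) :
        Matrix (Fin m ⊕ Fin m) (Fin m ⊕ Fin m) F) *ᵥ z = z := by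
      rw [inv_mul_cancel, sp_coe_one, Matrix.one_mulVec]
    rw [sp_coe_mul, ← Matrix.mulVec_mulVec, hB] at h1
    exact h1

/-- the subspace of vectors supported on coordinates of index `< k` -/
def sUk (F : Type*) [Field F] (m k : ℕ) : Submodule F (Fin m ⊕ Fin m → F) where
  carrier := {v | ∀ i : Fin m, k ≤ (i : ℕ) → v (Sum.inl i) = 0 ∧ v (Sum.inr i) = 0}
  add_mem' := by
    intro a b ha hb i hi
    simp [(ha i hi).1, (ha i hi).2, (hb i hi).1, (hb i hi).2]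
  zero_mem' := by
    intro i hi
    simp
  smul_mem' := by
    intro c a ha i hi
    simp [(ha i hi).1, (ha i hi).2]

theorem mem_sUk (k : ℕ) (v : Fin m ⊕ Fin m → F) :
    v ∈ sUk F m k ↔ ∀ i : Fin m, k ≤ (i : ℕ) → v (Sum.inl i) = 0 ∧ v (Sum.inr i) = 0 := Iff.rfl

theorem single_inl_mem_sUk (k : ℕ) (i : Fin m) (hi : (i : ℕ) < k) :
    (Pi.single (Sum.inl i) (1 : F) : Fin m ⊕ Fin m → F) ∈ sUk F m k := by
  classical
  intro j hj
  have hne : j ≠ i := by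
    intro h; rw [h] at hj; omega
  constructor
  · simp [hne]
  · simp

theorem single_inr_mem_sUk (k : ℕ) (i : Fin m) (hi : (i : ℕ) < k) :
    (Pi.single (Sum.inr i) (1 : F) : Fin m ⊕ Fin m → F) ∈ sUk F m k := by
  classical
  intro j hj
  have hne : j ≠ i := by
    intro h; rw [h] at hj; omega
  constructor
  · simp
  · simp [hne]

theorem sUk_nondeg (k : ℕ) (u : Fin m ⊕ Fin m → F) (hu : u ∈ sUk F m k) (hu0 : u ≠ 0) :
    ∃ x ∈ sUk F m k, Cfsg.sympForm m F u x ≠ 0 := by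
  classical
  obtain ⟨j, hj⟩ := Function.ne_iff.1 hu0
  rcases j with i | i
  · have hi : (i : ℕ) < k := by
      by_contra hcon
      exact hj ((hu i (by omega)).1)
    refine ⟨Pi.single (Sum.inr i) 1, single_inr_mem_sUk k i hi, ?_⟩
    rw [sf_single_inr]
    exact neg_ne_zero.2 hj
  · have hi : (i : ℕ) < k := by
      by_contra hcon
      exact hj ((hu i (by omega)).2)
    refine ⟨Pi.single (Sum.inl i) 1, single_inl_mem_sUk k i hi, ?_⟩
    rw [sf_single_inl]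
    exact hj

end Symp

end Cfsg.Agent.Helper6
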