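import Mathlib
import Cfsg.Prelude.Def_ClassicalGeometry
import Cfsg.Agent.Helper6.Symp

set_option autoImplicit false

namespace Cfsg.Agent.Helper6

open Matrix

section Symp2

variable {F : Type*} [Field F] {m : ℕ}

theorem sf_smul_left (a : F) (u v : Fin m ⊕ Fin m → F) :
    Cfsg.sympForm m F (a • u) v = a * Cfsg.sympForm m F u v := by
  simp [Cfsg.sympForm, smul_dotProduct]

theorem sf_sub_left (u u' v : Fin m ⊕ Fin m → F) :
    Cfsg.sympForm m F (u - u') v = Cfsg.sympForm m F u v - Cfsg.sympForm m F u' v := by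
  simp [Cfsg.sympForm, sub_dotProduct]

theorem sp_inv_mulVec (g : Matrix.symplecticGroup (Fin m) F) (x : Fin m ⊕ Fin m → F) :
    ((g⁻¹ : Matrix.symplecticGroup (Fin m) F) : Matrix (Fin m ⊕ Fin m) (Fin m ⊕ Fin m) F) *ᵥ
      ((g : Matrix (Fin m ⊕ Fin m) (Fin m ⊕ Fin m) F) *ᵥ x) = x := by
  rw [Matrix.mulVec_mulVec, ← sp_coe_mul, inv_mul_cancel, sp_coe_one, Matrix.one_mulVec]

theorem sp_mulVec_inv (g : Matrix.symplecticGroup (Fin m) F) (x : Fin m ⊕ Fin m → F) :
    (g : Matrix (Fin m ⊕ Fin m) (Fin m ⊕ Fin m) F) *ᵥ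
      (((g⁻¹ : Matrix.symplecticGroup (Fin m) F) :
        Matrix (Fin m ⊕ Fin m) (Fin m ⊕ Fin m) F) *ᵥ x) = x := by
  rw [Matrix.mulVec_mulVec, ← sp_coe_mul, mul_inv_cancel, sp_coe_one, Matrix.one_mulVec]

/-- the subspace of vectors supported on coordinates of index `≥ k` -/
def sVk (F : Type*) [Field F] (m k : ℕ) : Submodule F (Fin m ⊕ Fin m → F) where
  carrier := {v | ∀ i : Fin m, (i : ℕ) < k → v (Sum.inl i) = 0 ∧ v (Sum.inr i) = 0}
  add_mem' := by
    intro a b ha hb i hi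
    simp [(ha i hi).1, (ha i hi).2, (hb i hi).1, (hb i hi).2]
  zero_mem' := by
    intro i hi
    simp
  smul_mem' := by
    intro c a ha i hi
    simp [(ha i hi).1, (ha i hi).2]

theorem single_inl_mem_sVk (k : ℕ) (i : Fin m) (hi : k ≤ (i : ℕ)) :
    (Pi.single (Sum.inl i) (1 : F) : Fin m ⊕ Fin m → F) ∈ sVk F m k := by
  classical
  intro j hj
  have hne : j ≠ i := by
    intro h; rw [h] at hj; omega
  constructor
  · simp [hne]
  · simp

theorem single_inr_mem_sVk (k : ℕ) (i : Fin m) (hi : k ≤ (i : ℕ)) :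
    (Pi.single (Sum.inr i) (1 : F) : Fin m ⊕ Fin m → F) ∈ sVk F m k := by
  classical
  intro j hj
  have hne : j ≠ i := by
    intro h; rw [h] at hj; omega
  constructor
  · simp
  · simp [hne]

theorem sVk_nondeg (k : ℕ) (u : Fin m ⊕ Fin m → F) (hu : u ∈ sVk F m k) (hu0 : u ≠ 0) :
    ∃ x ∈ sVk F m k, Cfsg.sympForm m F u x ≠ 0 := by
  classical
  obtain ⟨j, hj⟩ := Function.ne_iff.1 hu0
  rcases j with i | i
  · have hi : k ≤ (i : ℕ) := by
      by_contra hcon
      exact hj ((hu i (by omega)).1)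
    refine ⟨Pi.single (Sum.inr i) 1, single_inr_mem_sVk k i hi, ?_⟩
    rw [sf_single_inr]
    exact neg_ne_zero.2 hj
  · have hi : k ≤ (i : ℕ) := by
      by_contra hcon
      exact hj ((hu i (by omega)).2)
    refine ⟨Pi.single (Sum.inl i) 1, single_inl_mem_sVk k i hi, ?_⟩
    rw [sf_single_inl]
    exact hj

theorem sf_sUk_sVk (k : ℕ) (z w : Fin m ⊕ Fin m → F) (hz : z ∈ sUk F m k) (hw : w ∈ sVk F m k) :
    Cfsg.sympForm m F z w = 0 := by
  rw [Cfsg.sympForm, Cfsg.Agent.S0764.J_mulVec, dotProduct, Fintype.sum_sum_type]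
  simp only [Sum.elim_inl, Sum.elim_inr]
  have e1 : ∑ i, z (Sum.inl i) * -w (Sum.inr i) = 0 := by
    apply Finset.sum_eq_zero
    intro i _
    by_cases hi : (i : ℕ) < k
    · rw [(hw i hi).2, neg_zero, mul_zero]
    · rw [(hz i (by omega)).1, zero_mul]
  have e2 : ∑ i, z (Sum.inr i) * w (Sum.inl i) = 0 := by
    apply Finset.sum_eq_zero
    intro i _
    by_cases hi : (i : ℕ) < k
    · rw [(hw i hi).1, mul_zero]
    · rw [(hz i (by omega)).2, zero_mul]
  rw [e1, e2, add_zero]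

theorem mem_sVk_of_perp (k : ℕ) (z : Fin m ⊕ Fin m → F)
    (hz : ∀ w ∈ sUk F m k, Cfsg.sympForm m F z w = 0) : z ∈ sVk F m k := by
  intro i hi
  constructor
  · have h1 := hz _ (single_inr_mem_sUk (F := F) k i hi)
    rw [sf_single_inr] at h1
    exact neg_eq_zero.1 h1
  · have h1 := hz _ (single_inl_mem_sUk (F := F) k i hi)
    rw [sf_single_inl] at h1
    exact h1

/-- the orthogonal complement of a hyperbolic pair inside `W` -/
def sW' (W : Submodule F (Fin m ⊕ Fin m → F)) (u v : Fin m ⊕ Fin m → F) :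
    Submodule F (Fin m ⊕ Fin m → F) where
  carrier := {w | w ∈ W ∧ Cfsg.sympForm m F w u = 0 ∧ Cfsg.sympForm m F w v = 0}
  add_mem' := by
    rintro a b ⟨ha, ha1, ha2⟩ ⟨hb, hb1, hb2⟩
    exact ⟨W.add_mem ha hb, by rw [sf_add_left, ha1, hb1, add_zero],
      by rw [sf_add_left, ha2, hb2, add_zero]⟩
  zero_mem' := ⟨W.zero_mem, sf_zero_left _, sf_zero_left _⟩
  smul_mem' := by
    rintro c a ⟨ha, ha1, ha2⟩
    exact ⟨W.smul_mem c ha, by rw [sf_smul_left, ha1, mul_zero],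
      by rw [sf_smul_left, ha2, mul_zero]⟩

theorem mem_sW' (W : Submodule F (Fin m ⊕ Fin m → F)) (u v w : Fin m ⊕ Fin m → F) :
    w ∈ sW' W u v ↔ w ∈ W ∧ Cfsg.sympForm m F w u = 0 ∧ Cfsg.sympForm m F w v = 0 := Iff.rfl

theorem sW'_decomp (W : Submodule F (Fin m ⊕ Fin m → F)) (u v : Fin m ⊕ Fin m → F)
    (hu : u ∈ W) (hv : v ∈ W) (huv : Cfsg.sympForm m F u v = 1) (z : Fin m ⊕ Fin m → F)
    (hz : z ∈ W) :
    z - Cfsg.sympForm m F z v • u + Cfsg.sympForm m F z u • v ∈ sW' W u v := by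
  have hvu : Cfsg.sympForm m F v u = -1 := by rw [sf_swap, huv]
  refine ⟨W.add_mem (W.sub_mem hz (W.smul_mem _ hu)) (W.smul_mem _ hv), ?_, ?_⟩
  · rw [sf_add_left, sf_sub_left, sf_smul_left, sf_smul_left, sf_self, hvu]
    ring
  · rw [sf_add_left, sf_sub_left, sf_smul_left, sf_smul_left, sf_self, huv]
    ring

theorem sW'_nondeg (W : Submodule F (Fin m ⊕ Fin m → F)) (u v : Fin m ⊕ Fin m → F)
    (hu : u ∈ W) (hv : v ∈ W) (huv : Cfsg.sympForm m F u v = 1)
    (hW : ∀ x ∈ W, (∀ y ∈ W, Cfsg.sympForm m F x y = 0) → x = 0) :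
    ∀ x ∈ sW' W u v, (∀ y ∈ sW' W u v, Cfsg.sympForm m F x y = 0) → x = 0 := by
  intro x hx hperp
  apply hW x hx.1
  intro z hz
  have h1 := hperp _ (sW'_decomp W u v hu hv huv z hz)
  rw [sf_add_right, sf_sub_right, sf_smul_right, sf_smul_right, hx.2.1, hx.2.2] at h1
  simpa using h1

theorem sW'_finrank (W : Submodule F (Fin m ⊕ Fin m → F)) (u v : Fin m ⊕ Fin m → F)
    (hu : u ∈ W) (hv : v ∈ W) (huv : Cfsg.sympForm m F u v = 1) :
    Module.finrank F (sW' W u v) + 2 = Module.finrank F W := by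
  have hvu : Cfsg.sympForm m F v u = -1 := by rw [sf_swap, huv]
  have hinf : sW' W u v ⊓ Submodule.span F {u, v} = ⊥ := by
    rw [eq_bot_iff]
    rintro x ⟨hx1, hx2⟩
    obtain ⟨a, b, rfl⟩ := Submodule.mem_span_pair.1 hx2
    have h1 := hx1.2.1
    have h2 := hx1.2.2
    rw [sf_add_left, sf_smul_left, sf_smul_left, sf_self, hvu] at h1
    rw [sf_add_left, sf_smul_left, sf_smul_left, sf_self, huv] at h2
    have hb : b = 0 := by linear_combination -h1
    have ha : a = 0 := by linear_combination h2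
    rw [ha, hb]
    simp
  have hsup : sW' W u v ⊔ Submodule.span F {u, v} = W := by
    apply le_antisymm
    · apply sup_le
      · intro x hx; exact hx.1
      · rw [Submodule.span_le]
        intro x hx
        rcases hx with rfl | rfl
        · exact hu
        · exact hv
    · intro z hz
      have h1 := sW'_decomp W u v hu hv huv z hz
      have h2 : Cfsg.sympForm m F z v • u + (-Cfsg.sympForm m F z u) • v ∈
          Submodule.span F {u, v} := Submodule.mem_span_pair.2 ⟨_, _, rfl⟩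
      have h3 := Submodule.add_mem_sup h1 h2
      have h4 : z - Cfsg.sympForm m F z v • u + Cfsg.sympForm m F z u • v +
          (Cfsg.sympForm m F z v • u + (-Cfsg.sympForm m F z u) • v) = z := by
        rw [neg_smul]; abel
      rw [h4] at h3
      exact h3
  have hli : LinearIndependent F ![u, v] := by
    rw [LinearIndependent.pair_iff]
    intro s t hst
    have h1 := congrArg (fun x => Cfsg.sympForm m F x v) hst
    have h2 := congrArg (fun x => Cfsg.sympForm m F x u) hst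
    simp only [sf_add_left, sf_smul_left, sf_self, huv, hvu, sf_zero_left] at h1 h2
    constructor
    · linear_combination h1
    · linear_combination -h2
  have hP : Module.finrank F (Submodule.span F ({u, v} : Set (Fin m ⊕ Fin m → F))) = 2 := by
    have h1 := finrank_span_eq_card hli
    rw [Matrix.range_cons_cons_empty] at h1
    rw [h1]
    rfl
  have h := Submodule.finrank_sup_add_finrank_inf_eq (sW' W u v) (Submodule.span F {u, v})
  rw [hsup, hinf, finrank_bot, hP] at h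
  omega

theorem sUk_mono (k : ℕ) (x : Fin m ⊕ Fin m → F) (hx : x ∈ sUk F m k) : x ∈ sUk F m (k + 1) :=
  fun i hi => hx i (by omega)

theorem exists_sp_map_sUk : ∀ k : ℕ, k ≤ m → ∀ W : Submodule F (Fin m ⊕ Fin m → F),
    (∀ u ∈ W, (∀ v ∈ W, Cfsg.sympForm m F u v = 0) → u = 0) → Module.finrank F W = 2 * k →
    ∃ g : Matrix.symplecticGroup (Fin m) F, ∀ x : Fin m ⊕ Fin m → F,
      x ∈ sUk F m k ↔ (g : Matrix (Fin m ⊕ Fin m) (Fin m ⊕ Fin m) F) *ᵥ x ∈ W := by
  classical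
  intro k
  induction k with
  | zero =>
    intro _ W hW hfin
    have hbot : W = ⊥ := by
      rw [mul_zero] at hfin
      exact Submodule.finrank_eq_zero.1 hfin
    refine ⟨1, fun x => ?_⟩
    rw [sp_coe_one, Matrix.one_mulVec, hbot, Submodule.mem_bot]
    constructor
    · intro hx
      funext j
      rcases j with i | i
      · exact (hx i (Nat.zero_le _)).1
      · exact (hx i (Nat.zero_le _)).2
    · rintro rfl
      exact (sUk F m 0).zero_mem
  | succ k ih =>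
    intro hk W hW hfin
    have hne : W ≠ ⊥ := by
      intro h
      rw [h, finrank_bot] at hfin
      omega
    obtain ⟨u, huW, hu0⟩ := Submodule.exists_mem_ne_zero_of_ne_bot hne
    obtain ⟨v0, hv0W, hv0⟩ : ∃ v0 ∈ W, Cfsg.sympForm m F u v0 ≠ 0 := by
      by_contra hcon
      push Not at hcon
      exact hu0 (hW u huW hcon)
    obtain ⟨v, hv_def⟩ : ∃ v, v = (Cfsg.sympForm m F u v0)⁻¹ • v0 := ⟨_, rfl⟩
    have hvW : v ∈ W := by rw [hv_def]; exact W.smul_mem _ hv0W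
    have huv : Cfsg.sympForm m F u v = 1 := by
      rw [hv_def, sf_smul_right, inv_mul_cancel₀ hv0]
    have hfin' : Module.finrank F (sW' W u v) = 2 * k := by
      have := sW'_finrank W u v huW hvW huv
      omega
    obtain ⟨g', hg'⟩ := ih (by omega) (sW' W u v) (sW'_nondeg W u v huW hvW huv hW) hfin'
    obtain ⟨u1, hu1⟩ : ∃ u1, u1 = ((g'⁻¹ : Matrix.symplecticGroup (Fin m) F) :
        Matrix (Fin m ⊕ Fin m) (Fin m ⊕ Fin m) F) *ᵥ u := ⟨_, rfl⟩
    obtain ⟨v1, hv1⟩ : ∃ v1, v1 = ((g'⁻¹ : Matrix.symplecticGroup (Fin m) F) :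
        Matrix (Fin m ⊕ Fin m) (Fin m ⊕ Fin m) F) *ᵥ v := ⟨_, rfl⟩
    have hgu1 : (g' : Matrix (Fin m ⊕ Fin m) (Fin m ⊕ Fin m) F) *ᵥ u1 = u := by
      rw [hu1, sp_mulVec_inv]
    have hgv1 : (g' : Matrix (Fin m ⊕ Fin m) (Fin m ⊕ Fin m) F) *ᵥ v1 = v := by
      rw [hv1, sp_mulVec_inv]
    have hu1v1 : Cfsg.sympForm m F u1 v1 = 1 := by
      rw [← sp_preserves g' u1 v1, hgu1, hgv1, huv]
    have hu1V : u1 ∈ sVk F m k := by
      apply mem_sVk_of_perp
      intro x hx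
      have h1 := (hg' x).1 hx
      rw [← sp_preserves g' u1 x, hgu1, sf_swap, h1.2.1, neg_zero]
    have hv1V : v1 ∈ sVk F m k := by
      apply mem_sVk_of_perp
      intro x hx
      have h1 := (hg' x).1 hx
      rw [← sp_preserves g' v1 x, hgv1, sf_swap, h1.2.2, neg_zero]
    obtain ⟨i0, hi0⟩ : ∃ i0 : Fin m, (i0 : ℕ) = k := ⟨⟨k, by omega⟩, rfl⟩
    obtain ⟨e, he⟩ : ∃ e : Fin m ⊕ Fin m → F, e = Pi.single (Sum.inl i0) 1 := ⟨_, rfl⟩
    obtain ⟨f', hf'⟩ : ∃ f' : Fin m ⊕ Fin m → F, f' = Pi.single (Sum.inr i0) 1 := ⟨_, rfl⟩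
    have hfe : Cfsg.sympForm m F f' e = 1 := by
      rw [he, sf_single_inl, hf']; simp
    have heV : e ∈ sVk F m k := by rw [he]; exact single_inl_mem_sVk k i0 (by omega)
    have hfV : f' ∈ sVk F m k := by rw [hf']; exact single_inr_mem_sVk k i0 (by omega)
    obtain ⟨B, hB, hBf, hBe⟩ := strans (sVk F m k) (sVk_nondeg k) f' e u1 v1 hfV heV hu1V hv1V
      hfe hu1v1
    have hBfix : ∀ x ∈ sUk F m k,
        (B : Matrix (Fin m ⊕ Fin m) (Fin m ⊕ Fin m) F) *ᵥ x = x :=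
      fun x hx => sfix_perp _ B hB x (fun w hw => sf_sUk_sVk k x w hx hw)
    have hcomp : ∀ (x0 : Fin m ⊕ Fin m → F) (a b : F), x0 ∈ sUk F m k →
        (g' : Matrix (Fin m ⊕ Fin m) (Fin m ⊕ Fin m) F) *ᵥ
          ((B : Matrix (Fin m ⊕ Fin m) (Fin m ⊕ Fin m) F) *ᵥ (x0 + a • f' + b • e)) =
        (g' : Matrix (Fin m ⊕ Fin m) (Fin m ⊕ Fin m) F) *ᵥ x0 + a • u + b • v := by
      intro x0 a b hx0
      simp only [Matrix.mulVec_add, Matrix.mulVec_smul, hBf, hBe, hBfix x0 hx0, hgu1, hgv1]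
    have heU : e ∈ sUk F m (k + 1) := by
      rw [he]; exact single_inl_mem_sUk (k + 1) i0 (by omega)
    have hfU : f' ∈ sUk F m (k + 1) := by
      rw [hf']; exact single_inr_mem_sUk (k + 1) i0 (by omega)
    refine ⟨g' * B, fun x => ?_⟩
    rw [sp_coe_mul, ← Matrix.mulVec_mulVec]
    constructor
    · intro hx
      obtain ⟨x0, hx0⟩ : ∃ x0, x0 = x - x (Sum.inr i0) • f' - x (Sum.inl i0) • e := ⟨_, rfl⟩
      have hx0U : x0 ∈ sUk F m k := by
        intro i hi
        by_cases hik : i = i0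
        · rw [hik, hx0, he, hf']
          constructor
          · simp
          · simp
        · have hi' : k + 1 ≤ (i : ℕ) := by
            have : (i : ℕ) ≠ k := fun h => hik (Fin.ext (by omega))
            omega
          have h1 := hx i hi'
          rw [hx0, he, hf']
          constructor
          · simp [h1.1, hik]
          · simp [h1.2, hik]
      have hxeq : x = x0 + x (Sum.inr i0) • f' + x (Sum.inl i0) • e := by
        rw [hx0]; abel
      rw [hxeq, hcomp x0 _ _ hx0U]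
      exact W.add_mem (W.add_mem ((hg' x0).1 hx0U).1 (W.smul_mem _ huW)) (W.smul_mem _ hvW)
    · intro hx
      obtain ⟨y, hy⟩ : ∃ y, y = (g' : Matrix (Fin m ⊕ Fin m) (Fin m ⊕ Fin m) F) *ᵥ
          ((B : Matrix (Fin m ⊕ Fin m) (Fin m ⊕ Fin m) F) *ᵥ x) := ⟨_, rfl⟩
      rw [← hy] at hx
      have hy' := sW'_decomp W u v huW hvW huv y hx
      obtain ⟨a, ha⟩ : ∃ a, a = Cfsg.sympForm m F y v := ⟨_, rfl⟩
      obtain ⟨b, hb⟩ : ∃ b, b = Cfsg.sympForm m F y u := ⟨_, rfl⟩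
      rw [← ha, ← hb] at hy'
      obtain ⟨x0, hx0⟩ : ∃ x0, x0 = ((g'⁻¹ : Matrix.symplecticGroup (Fin m) F) :
          Matrix (Fin m ⊕ Fin m) (Fin m ⊕ Fin m) F) *ᵥ (y - a • u + b • v) := ⟨_, rfl⟩
      have hgx0 : (g' : Matrix (Fin m ⊕ Fin m) (Fin m ⊕ Fin m) F) *ᵥ x0 = y - a • u + b • v := by
        rw [hx0, sp_mulVec_inv]
      have hx0U : x0 ∈ sUk F m k := (hg' x0).2 (by rw [hgx0]; exact hy')
      have h1 : (g' : Matrix (Fin m ⊕ Fin m) (Fin m ⊕ Fin m) F) *ᵥ
          ((B : Matrix (Fin m ⊕ Fin m) (Fin m ⊕ Fin m) F) *ᵥ (x0 + a • f' + (-b) • e)) =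
          (g' : Matrix (Fin m ⊕ Fin m) (Fin m ⊕ Fin m) F) *ᵥ
          ((B : Matrix (Fin m ⊕ Fin m) (Fin m ⊕ Fin m) F) *ᵥ x) := by
        rw [hcomp x0 a (-b) hx0U, hgx0, ← hy, neg_smul]
        abel
      have h2 : x0 + a • f' + (-b) • e = x := by
        have h3 := congrArg (fun z => ((g'⁻¹ : Matrix.symplecticGroup (Fin m) F) :
          Matrix (Fin m ⊕ Fin m) (Fin m ⊕ Fin m) F) *ᵥ z) h1
        simp only [sp_inv_mulVec] at h3
        have h4 := congrArg (fun z => ((B⁻¹ : Matrix.symplecticGroup (Fin m) F) :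
          Matrix (Fin m ⊕ Fin m) (Fin m ⊕ Fin m) F) *ᵥ z) h3
        simp only [sp_inv_mulVec] at h4
        exact h4
      rw [← h2]
      exact (sUk F m (k + 1)).add_mem ((sUk F m (k + 1)).add_mem (sUk_mono k x0 hx0U)
        ((sUk F m (k + 1)).smul_mem _ hfU)) ((sUk F m (k + 1)).smul_mem _ heU)

end Symp2

end Cfsg.Agent.Helper6
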