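import Mathlib
import Cfsg.Agent.S0776
import Cfsg.Agent.S0768

set_option autoImplicit false

namespace Cfsg.Agent.Helper6

open Matrix Cfsg.Agent.S0776

variable {F : Type*} [Field F]

/-- the natural action of `Sp` on vectors -/
@[instance_reducible]
def spAct (m : ℕ) (F : Type*) [Field F] :
    MulAction (Matrix.symplecticGroup (Fin m) F) (Fin m ⊕ Fin m → F) where
  smul A v := (A : Matrix (Fin m ⊕ Fin m) (Fin m ⊕ Fin m) F) *ᵥ v
  one_smul v := Matrix.one_mulVec v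
  mul_smul _ _ v := (Matrix.mulVec_mulVec v _ _).symm

/-- The functional `w ↦ f(u, w)`. -/
noncomputable def sfL {m : ℕ} (u : Fin m ⊕ Fin m → F) : (Fin m ⊕ Fin m → F) →ₗ[F] F where
  toFun w := Cfsg.sympForm m F u w
  map_add' := fun a b => sf_add_right u a b
  map_smul' := fun a w => by
    rw [sf_smul_right]
    rfl

theorem mem_ker_sfL {m : ℕ} (u w : Fin m ⊕ Fin m → F) :
    w ∈ LinearMap.ker (sfL u) ↔ Cfsg.sympForm m F u w = 0 := Iff.rfl

theorem sfL_ker_finrank {m : ℕ} (u : Fin m ⊕ Fin m → F) (hu : u ≠ 0) :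
    Module.finrank F (LinearMap.ker (sfL u)) = 2 * m - 1 := by
  have h1 := LinearMap.finrank_range_add_finrank_ker (sfL u)
  have h2 : LinearMap.range (sfL u) = ⊤ := by
    rw [LinearMap.range_eq_top]
    obtain ⟨x, hx⟩ := S0768.nondeg u hu
    intro c
    refine ⟨(c / Cfsg.sympForm m F u x) • x, ?_⟩
    show Cfsg.sympForm m F u ((c / Cfsg.sympForm m F u x) • x) = c
    rw [sf_smul_right, div_mul_cancel₀ _ hx]
  rw [h2, finrank_top, Module.finrank_self, Module.finrank_fintype_fun_eq_card, Fintype.card_sum,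
    Fintype.card_fin] at h1
  omega

theorem sp_card_fiber [Fintype F] {m : ℕ} (u : Fin m ⊕ Fin m → F) (hu : u ≠ 0) :
    Nat.card {w : Fin m ⊕ Fin m → F // Cfsg.sympForm m F u w = 1}
      = Fintype.card F ^ (2 * m - 1) := by
  obtain ⟨x, hx⟩ := S0768.nondeg u hu
  obtain ⟨w₀, hw₀⟩ : ∃ w₀, Cfsg.sympForm m F u w₀ = 1 :=
    ⟨(Cfsg.sympForm m F u x)⁻¹ • x, by rw [sf_smul_right, inv_mul_cancel₀ hx]⟩
  have e : {w : Fin m ⊕ Fin m → F // Cfsg.sympForm m F u w = 1} ≃ ↥(LinearMap.ker (sfL u)) :=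
    { toFun := fun w => ⟨w.1 - w₀, by
        rw [mem_ker_sfL, sf_sub_right, w.2, hw₀, sub_self]⟩
      invFun := fun k => ⟨k.1 + w₀, by
        rw [sf_add_right, (mem_ker_sfL u k.1).1 k.2, hw₀, zero_add]⟩
      left_inv := fun w => Subtype.ext (sub_add_cancel _ _)
      right_inv := fun k => Subtype.ext (add_sub_cancel_right _ _) }
  haveI : Fintype ↥(LinearMap.ker (sfL u)) := Fintype.ofFinite _
  rw [Nat.card_congr e, Nat.card_eq_fintype_card, Module.card_eq_pow_finrank (K := F),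
    sfL_ker_finrank u hu]

theorem sp_card_HP [Fintype F] (m : ℕ) :
    Nat.card {p : (Fin m ⊕ Fin m → F) × (Fin m ⊕ Fin m → F) // Cfsg.sympForm m F p.1 p.2 = 1}
      = (Fintype.card F ^ (2 * m) - 1) * Fintype.card F ^ (2 * m - 1) := by
  classical
  have e : {p : (Fin m ⊕ Fin m → F) × (Fin m ⊕ Fin m → F) // Cfsg.sympForm m F p.1 p.2 = 1} ≃
      (Σ u : {u : Fin m ⊕ Fin m → F // u ≠ 0},
        {w : Fin m ⊕ Fin m → F // Cfsg.sympForm m F u.1 w = 1}) :=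
    { toFun := fun p => ⟨⟨p.1.1, by
        intro h0
        have := p.2
        rw [h0, sf_zero_left] at this
        exact zero_ne_one this⟩, ⟨p.1.2, p.2⟩⟩
      invFun := fun s => ⟨(s.1.1, s.2.1), s.2.2⟩
      left_inv := fun p => rfl
      right_inv := fun s => rfl }
  rw [Nat.card_congr e, Nat.card_sigma]
  have h1 : ∀ u : {u : Fin m ⊕ Fin m → F // u ≠ 0},
      Nat.card {w : Fin m ⊕ Fin m → F // Cfsg.sympForm m F u.1 w = 1}
        = Fintype.card F ^ (2 * m - 1) := fun u => sp_card_fiber u.1 u.2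
  rw [Finset.sum_congr rfl (fun u _ => h1 u), Finset.sum_const, smul_eq_mul, Finset.card_univ,
    Fintype.card_subtype_compl, Fintype.card_subtype_eq, Fintype.card_fun, Fintype.card_sum,
    Fintype.card_fin, ← two_mul]

theorem emb_col_inl (m k : ℕ) (hk : k ≤ m)
    (A1 : Matrix (Fin k ⊕ Fin k) (Fin k ⊕ Fin k) F)
    (A2 : Matrix (Fin (m - k) ⊕ Fin (m - k)) (Fin (m - k) ⊕ Fin (m - k)) F)
    (z : Fin k ⊕ Fin k) (j : Fin m ⊕ Fin m) :
    (emb m k hk A1 A2 *ᵥ Pi.single (eqv m k hk (Sum.inl z)) 1) j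
      = Sum.elim (fun z' => A1 z' z) (fun _ => 0) ((eqv m k hk).symm j) := by
  classical
  rw [Matrix.mulVec_single_one]
  show emb m k hk A1 A2 j (eqv m k hk (Sum.inl z)) = _
  unfold emb
  rw [Matrix.submatrix_apply, Equiv.symm_apply_apply]
  rcases (eqv m k hk).symm j with z' | w
  · rfl
  · rfl

theorem sp_card_step [Fintype F] (m : ℕ) (hk : 1 ≤ m) :
    Nat.card (Matrix.symplecticGroup (Fin m) F)
      = (Fintype.card F ^ (2 * m) - 1) * Fintype.card F ^ (2 * m - 1)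
        * Nat.card (Matrix.symplecticGroup (Fin (m - 1)) F) := by
  classical
  obtain ⟨e₀, he₀⟩ : ∃ e₀ : Fin m ⊕ Fin m → F,
      e₀ = Pi.single (eqv m 1 hk (Sum.inl (Sum.inl 0))) 1 := ⟨_, rfl⟩
  obtain ⟨f₀, hf₀⟩ : ∃ f₀ : Fin m ⊕ Fin m → F,
      f₀ = Pi.single (eqv m 1 hk (Sum.inl (Sum.inr 0))) 1 := ⟨_, rfl⟩
  have hfe : Cfsg.sympForm m F f₀ e₀ = 1 := by
    rw [he₀, eqv_ll, sf_single_inl, hf₀, eqv_lr, Pi.single_eq_same]
  have hmem : ∀ z : Fin 1 ⊕ Fin 1,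
      (Pi.single (eqv m 1 hk (Sum.inl z)) (1 : F) : Fin m ⊕ Fin m → F) ∈ sUk F m 1 := by
    intro z
    rw [sUk_iff m 1 hk]
    intro z'
    have hne : eqv m 1 hk (Sum.inr z') ≠ eqv m 1 hk (Sum.inl z) := by
      intro h
      exact Sum.inr_ne_inl ((eqv m 1 hk).injective h)
    exact Pi.single_eq_of_ne hne _
  have hfix : ∀ (x : Matrix.symplecticGroup (Fin (m - 1)) F) (z : Fin 1 ⊕ Fin 1),
      ((Psi m 1 hk (1, x) : Matrix.symplecticGroup (Fin m) F) :
        Matrix (Fin m ⊕ Fin m) (Fin m ⊕ Fin m) F) *ᵥ Pi.single (eqv m 1 hk (Sum.inl z)) 1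
        = Pi.single (eqv m 1 hk (Sum.inl z)) 1 := by
    intro x z
    funext j
    rw [Psi_val, emb_col_inl]
    obtain ⟨y, rfl⟩ := (eqv m 1 hk).surjective j
    rw [Equiv.symm_apply_apply]
    rcases y with z' | w
    · simp [Matrix.one_apply, Pi.single_apply]
    · simp [Pi.single_apply]
  have hfw : ∀ B : Matrix.symplecticGroup (Fin m) F,
      (B : Matrix (Fin m ⊕ Fin m) (Fin m ⊕ Fin m) F) *ᵥ f₀ = f₀ →
      (B : Matrix (Fin m ⊕ Fin m) (Fin m ⊕ Fin m) F) *ᵥ e₀ = e₀ →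
      ∀ v ∈ sUk F m 1, (B : Matrix (Fin m ⊕ Fin m) (Fin m ⊕ Fin m) F) *ᵥ v ∈ sUk F m 1 := by
    intro B hBf hBe v hv
    have hdec : v = v (eqv m 1 hk (Sum.inl (Sum.inl 0))) • e₀
        + v (eqv m 1 hk (Sum.inl (Sum.inr 0))) • f₀ := by
      funext j
      obtain ⟨y, rfl⟩ := (eqv m 1 hk).surjective j
      rcases y with (a | a) | z
      · rw [Subsingleton.elim a 0, he₀, hf₀]
        simp [Pi.single_apply]
      · rw [Subsingleton.elim a 0, he₀, hf₀]
        simp [Pi.single_apply]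
      · rw [(sUk_iff m 1 hk v).1 hv z, he₀, hf₀]
        simp [Pi.single_apply]
    rw [hdec, Matrix.mulVec_add, Matrix.mulVec_smul, Matrix.mulVec_smul, hBf, hBe]
    exact Submodule.add_mem _ (Submodule.smul_mem _ _ (by rw [he₀]; exact hmem _))
      (Submodule.smul_mem _ _ (by rw [hf₀]; exact hmem _))
  have hchar : ∀ A : Matrix.symplecticGroup (Fin m) F,
      (A : Matrix (Fin m ⊕ Fin m) (Fin m ⊕ Fin m) F) *ᵥ f₀ = f₀ →
      (A : Matrix (Fin m ⊕ Fin m) (Fin m ⊕ Fin m) F) *ᵥ e₀ = e₀ →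
      ∃ x : Matrix.symplecticGroup (Fin (m - 1)) F, Psi m 1 hk (1, x) = A := by
    intro A hAf hAe
    have hif : ((A⁻¹ : Matrix.symplecticGroup (Fin m) F) :
        Matrix (Fin m ⊕ Fin m) (Fin m ⊕ Fin m) F) *ᵥ f₀ = f₀ := by
      have := sp_inv_mulVec A f₀
      rw [hAf] at this
      exact this
    have hie : ((A⁻¹ : Matrix.symplecticGroup (Fin m) F) :
        Matrix (Fin m ⊕ Fin m) (Fin m ⊕ Fin m) F) *ᵥ e₀ = e₀ := by
      have := sp_inv_mulVec A e₀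
      rw [hAe] at this
      exact this
    have hAst : A ∈ Cfsg.stabilizing (Cfsg.spToMat m F) (sUk F m 1 : Set (Fin m ⊕ Fin m → F)) := by
      intro v
      show v ∈ sUk F m 1 ↔ (A : Matrix (Fin m ⊕ Fin m) (Fin m ⊕ Fin m) F) *ᵥ v ∈ sUk F m 1
      constructor
      · exact hfw A hAf hAe v
      · intro hv
        have h1 := hfw A⁻¹ hif hie _ hv
        rw [sp_inv_mulVec] at h1
        exact h1
    obtain ⟨⟨x₁, x₂⟩, hx⟩ := stab_blocks m 1 hk A hAst
    have hx1 : x₁ = 1 := by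
      apply Subtype.ext
      ext z' z
      have h1 : ((Psi m 1 hk (x₁, x₂) : Matrix.symplecticGroup (Fin m) F) :
          Matrix (Fin m ⊕ Fin m) (Fin m ⊕ Fin m) F) *ᵥ Pi.single (eqv m 1 hk (Sum.inl z)) 1
          = Pi.single (eqv m 1 hk (Sum.inl z)) 1 := by
        rw [hx]
        rcases z with a | a
        · rw [Subsingleton.elim a 0, ← he₀]
          exact hAe
        · rw [Subsingleton.elim a 0, ← hf₀]
          exact hAf
      have h2 := congrFun h1 (eqv m 1 hk (Sum.inl z'))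
      rw [Psi_val, emb_col_inl, Equiv.symm_apply_apply] at h2
      simp only [Sum.elim_inl, Pi.single_apply, EmbeddingLike.apply_eq_iff_eq, Sum.inl.injEq] at h2
      rw [h2]
      show _ = (1 : Matrix (Fin 1 ⊕ Fin 1) (Fin 1 ⊕ Fin 1) F) z' z
      rw [Matrix.one_apply]
    refine ⟨x₂, ?_⟩
    rw [← hx1]
    exact hx
  have hex : ∀ p : {p : (Fin m ⊕ Fin m → F) × (Fin m ⊕ Fin m → F) //
      Cfsg.sympForm m F p.1 p.2 = 1}, ∃ g : Matrix.symplecticGroup (Fin m) F,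
      (g : Matrix (Fin m ⊕ Fin m) (Fin m ⊕ Fin m) F) *ᵥ f₀ = p.1.1 ∧
      (g : Matrix (Fin m ⊕ Fin m) (Fin m ⊕ Fin m) F) *ᵥ e₀ = p.1.2 := by
    intro p
    obtain ⟨A, -, h1, h2⟩ := strans (⊤ : Submodule F (Fin m ⊕ Fin m → F)) S0768.top_nondeg
      f₀ e₀ p.1.1 p.1.2 trivial trivial trivial trivial hfe p.2
    exact ⟨A, h1, h2⟩
  choose g hg1 hg2 using hex
  have hΦf : ∀ p x, ((g p * Psi m 1 hk (1, x) : Matrix.symplecticGroup (Fin m) F) :
      Matrix (Fin m ⊕ Fin m) (Fin m ⊕ Fin m) F) *ᵥ f₀ = p.1.1 := by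
    intro p x
    rw [sp_coe_mul, ← Matrix.mulVec_mulVec, hf₀, hfix x, ← hf₀, hg1]
  have hΦe : ∀ p x, ((g p * Psi m 1 hk (1, x) : Matrix.symplecticGroup (Fin m) F) :
      Matrix (Fin m ⊕ Fin m) (Fin m ⊕ Fin m) F) *ᵥ e₀ = p.1.2 := by
    intro p x
    rw [sp_coe_mul, ← Matrix.mulVec_mulVec, he₀, hfix x, ← he₀, hg2]
  have hbij : Function.Bijective
      (fun px : {p : (Fin m ⊕ Fin m → F) × (Fin m ⊕ Fin m → F) //
        Cfsg.sympForm m F p.1 p.2 = 1} × Matrix.symplecticGroup (Fin (m - 1)) F =>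
        g px.1 * Psi m 1 hk (1, px.2)) := by
    constructor
    · rintro ⟨p, x⟩ ⟨p', x'⟩ h
      have h' : g p * Psi m 1 hk (1, x) = g p' * Psi m 1 hk (1, x') := h
      have hp : p = p' := by
        apply Subtype.ext
        apply Prod.ext
        · rw [← hΦf p x, ← hΦf p' x', h']
        · rw [← hΦe p x, ← hΦe p' x', h']
      subst hp
      have h2 : Psi m 1 hk (1, x) = Psi m 1 hk (1, x') := mul_left_cancel h'
      have h3 := congrArg Subtype.val h2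
      rw [Psi_val, Psi_val] at h3
      have h4 := (emb_inj m 1 hk _ _ _ _ h3).2
      have hxx : x = x' := Subtype.ext h4
      rw [hxx]
    · intro A
      have hp : Cfsg.sympForm m F ((A : Matrix (Fin m ⊕ Fin m) (Fin m ⊕ Fin m) F) *ᵥ f₀)
          ((A : Matrix (Fin m ⊕ Fin m) (Fin m ⊕ Fin m) F) *ᵥ e₀) = 1 := by
        rw [sp_preserves, hfe]
      obtain ⟨p, hpdef⟩ : ∃ p : {p : (Fin m ⊕ Fin m → F) × (Fin m ⊕ Fin m → F) //
          Cfsg.sympForm m F p.1 p.2 = 1},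
          p = ⟨((A : Matrix (Fin m ⊕ Fin m) (Fin m ⊕ Fin m) F) *ᵥ f₀,
            (A : Matrix (Fin m ⊕ Fin m) (Fin m ⊕ Fin m) F) *ᵥ e₀), hp⟩ := ⟨_, rfl⟩
      have hBf : (((g p)⁻¹ * A : Matrix.symplecticGroup (Fin m) F) :
          Matrix (Fin m ⊕ Fin m) (Fin m ⊕ Fin m) F) *ᵥ f₀ = f₀ := by
        have h1 : (A : Matrix (Fin m ⊕ Fin m) (Fin m ⊕ Fin m) F) *ᵥ f₀
            = (g p : Matrix (Fin m ⊕ Fin m) (Fin m ⊕ Fin m) F) *ᵥ f₀ := by
          rw [hg1 p, hpdef]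
        rw [sp_coe_mul, ← Matrix.mulVec_mulVec, h1, sp_inv_mulVec]
      have hBe : (((g p)⁻¹ * A : Matrix.symplecticGroup (Fin m) F) :
          Matrix (Fin m ⊕ Fin m) (Fin m ⊕ Fin m) F) *ᵥ e₀ = e₀ := by
        have h1 : (A : Matrix (Fin m ⊕ Fin m) (Fin m ⊕ Fin m) F) *ᵥ e₀
            = (g p : Matrix (Fin m ⊕ Fin m) (Fin m ⊕ Fin m) F) *ᵥ e₀ := by
          rw [hg2 p, hpdef]
        rw [sp_coe_mul, ← Matrix.mulVec_mulVec, h1, sp_inv_mulVec]
      obtain ⟨x, hx⟩ := hchar _ hBf hBe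
      refine ⟨(p, x), ?_⟩
      show g p * Psi m 1 hk (1, x) = A
      rw [hx, mul_inv_cancel_left]
  rw [← Nat.card_congr (Equiv.ofBijective _ hbij), Nat.card_prod, sp_card_HP]

theorem sp_card [Fintype F] {q : ℕ} (hF : Fintype.card F = q) (m : ℕ) :
    Nat.card (Matrix.symplecticGroup (Fin m) F)
      = q ^ (m ^ 2) * ∏ i ∈ Finset.range m, (q ^ (2 * (i + 1)) - 1) := by
  subst hF
  induction m with
  | zero =>
    haveI : Subsingleton (Matrix.symplecticGroup (Fin 0) F) :=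
      ⟨fun a b => Subtype.ext (Matrix.ext (fun i _ => (IsEmpty.false i).elim))⟩
    rw [Nat.card_of_subsingleton (1 : Matrix.symplecticGroup (Fin 0) F)]
    simp
  | succ m ih =>
    rw [sp_card_step (m + 1) (by omega), show m + 1 - 1 = m from rfl, ih, Finset.prod_range_succ]
    have h1 : (m + 1) ^ 2 = m ^ 2 + (2 * (m + 1) - 1) := by
      have : 2 * (m + 1) - 1 = 2 * m + 1 := by omega
      rw [this]
      ring
    rw [h1, pow_add]
    ring

end Cfsg.Agent.Helper6
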