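import Mathlib
import Cfsg.Agent.Helper22.SpDer1

set_option autoImplicit false

namespace Cfsg.Agent.H6SpSyl

open Matrix

universe u w

theorem card_range_le' {ι α β : Type*} [Finite ι] (ρ : ι → α) (f : ι → β)
    (h : ∀ i j, f i = f j → ρ i = ρ j) : Nat.card (Set.range ρ) ≤ Nat.card (Set.range f) := by
  haveI : Finite (Set.range f) := Set.finite_range f
  let φ : Set.range f → Set.range ρ := fun y => ⟨ρ y.2.choose, Set.mem_range_self _⟩
  apply Nat.card_le_card_of_surjective φ
  rintro ⟨x, i, rfl⟩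
  refine ⟨⟨f i, Set.mem_range_self i⟩, ?_⟩
  apply Subtype.ext
  exact h _ _ (Set.mem_range_self i : f i ∈ Set.range f).choose_spec

theorem card_range_prod_le {ι α β : Type*} [Finite ι] (a : ι → α) (b : ι → β) :
    Nat.card (Set.range (fun i => (a i, b i))) ≤ Nat.card (Set.range a) * Nat.card (Set.range b) := by
  haveI : Finite (Set.range a) := Set.finite_range a
  haveI : Finite (Set.range b) := Set.finite_range b
  rw [← Nat.card_prod]
  apply Nat.card_le_card_of_injective
    (fun y : Set.range (fun i => (a i, b i)) =>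
      ((⟨y.1.1, by obtain ⟨i, hi⟩ := y.2; exact ⟨i, by rw [← hi]⟩⟩ : Set.range a),
       (⟨y.1.2, by obtain ⟨i, hi⟩ := y.2; exact ⟨i, by rw [← hi]⟩⟩ : Set.range b)))
  intro y y' hyy
  apply Subtype.ext
  have h1 := congrArg (fun p : Set.range a × Set.range b => (p.1 : α)) hyy
  have h2 := congrArg (fun p : Set.range a × Set.range b => (p.2 : β)) hyy
  exact Prod.ext h1 h2

/-- A family of commuting involutive isometries of a nondegenerate alternating space of
dimension `d` has at most `2 ^ (d / 2)` members. -/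
theorem key {F : Type*} [Field F] (h2 : (2 : F) ≠ 0) {ι : Type w} [Finite ι] :
    ∀ (d : ℕ) (V : Type u) [AddCommGroup V] [Module F V] [Module.Finite F V]
      (B : V →ₗ[F] V →ₗ[F] F) (ρ : ι → V →ₗ[F] V),
      (∀ v, B v v = 0) → (∀ v, (∀ w, B v w = 0) → v = 0) →
      (∀ i v, ρ i (ρ i v) = v) → (∀ i j v, ρ i (ρ j v) = ρ j (ρ i v)) →
      (∀ i v w, B (ρ i v) (ρ i w) = B v w) → Module.finrank F V = d →
      Nat.card (Set.range ρ) ≤ 2 ^ (d / 2) := by
  intro d
  induction d using Nat.strong_induction_on with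
  | _ d ih =>
  intro V _ _ _ B ρ halt hnd hinv hcomm hiso hd
  by_cases hA : ∀ i, ρ i = LinearMap.id ∨ ρ i = -LinearMap.id
  · have hsub : Set.range ρ ⊆ {LinearMap.id, -LinearMap.id} := by
      rintro _ ⟨i, rfl⟩
      rcases hA i with h | h
      · rw [h]; exact Set.mem_insert _ _
      · rw [h]; exact Set.mem_insert_of_mem _ rfl
    have hfin : ({LinearMap.id, -LinearMap.id} : Set (V →ₗ[F] V)).Finite := Set.toFinite _
    rw [Nat.card_coe_set_eq]
    by_cases hd2 : 2 ≤ d
    · calc (Set.range ρ).ncard ≤ ({LinearMap.id, -LinearMap.id} : Set (V →ₗ[F] V)).ncard :=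
            Set.ncard_le_ncard hsub hfin
        _ ≤ ({-LinearMap.id} : Set (V →ₗ[F] V)).ncard + 1 := Set.ncard_insert_le _ _
        _ = 2 := by rw [Set.ncard_singleton]
        _ = 2 ^ 1 := by norm_num
        _ ≤ 2 ^ (d / 2) := Nat.pow_le_pow_right (by norm_num) (by omega)
    · have hd1 : d ≠ 1 := by
        intro h1
        rw [h1] at hd
        obtain ⟨v, hv0, hspan⟩ := finrank_eq_one_iff'.mp hd
        apply hv0
        apply hnd
        intro w
        obtain ⟨c, rfl⟩ := hspan w
        rw [map_smul, smul_eq_mul, halt, mul_zero]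
      have hd0 : d = 0 := by omega
      rw [hd0] at hd
      have hz : ∀ x : V, x = 0 := finrank_zero_iff_forall_zero.mp hd
      have hsub1 : Set.range ρ ⊆ {LinearMap.id} := by
        rintro _ ⟨i, rfl⟩
        rw [Set.mem_singleton_iff]
        ext v
        rw [hz (ρ i v), hz (LinearMap.id v)]
      calc (Set.range ρ).ncard ≤ ({LinearMap.id} : Set (V →ₗ[F] V)).ncard :=
            Set.ncard_le_ncard hsub1 (Set.finite_singleton _)
        _ = 1 := Set.ncard_singleton _
        _ ≤ 2 ^ (d / 2) := Nat.one_le_two_pow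
  · push_neg at hA
    obtain ⟨i₀, hne1, hne2⟩ := hA
    have htt : ∀ v, ρ i₀ (ρ i₀ v) = v := hinv i₀
    let Vp : Submodule F V := LinearMap.ker (ρ i₀ - LinearMap.id)
    let Vm : Submodule F V := LinearMap.ker (ρ i₀ + LinearMap.id)
    have memp : ∀ v, v ∈ Vp ↔ ρ i₀ v = v := by
      intro v
      simp only [Vp, LinearMap.mem_ker, LinearMap.sub_apply, LinearMap.id_coe, id_eq, sub_eq_zero]
    have memm : ∀ v, v ∈ Vm ↔ ρ i₀ v = -v := by
      intro v
      simp only [Vm, LinearMap.mem_ker, LinearMap.add_apply, LinearMap.id_coe, id_eq,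
        add_eq_zero_iff_eq_neg]
    have hdec : ∀ v, ∃ a ∈ Vp, ∃ b ∈ Vm, v = a + b := by
      intro v
      refine ⟨(2:F)⁻¹ • (v + ρ i₀ v), ?_, (2:F)⁻¹ • (v - ρ i₀ v), ?_, ?_⟩
      · rw [memp, map_smul, map_add, htt, add_comm]
      · rw [memm, map_smul, map_sub, htt, ← smul_neg, neg_sub]
      · rw [← smul_add, add_add_sub_cancel, ← two_smul F v, smul_smul, inv_mul_cancel₀ h2,
          one_smul]
    have hinf : ∀ v, v ∈ Vp → v ∈ Vm → v = 0 := by
      intro v hp hm
      rw [memp] at hp; rw [memm] at hm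
      have h3 : (2:F) • v = 0 := by
        rw [two_smul]
        have hvv : v = -v := hp.symm.trans hm
        exact (congrArg (fun x => v + x) hvv).trans (add_neg_cancel v)
      rcases smul_eq_zero.mp h3 with h | h
      · exact absurd h h2
      · exact h
    have hskew : ∀ v w, B w v = - B v w := by
      intro v w
      have h := halt (v + w)
      simp only [map_add, LinearMap.add_apply, halt, zero_add, add_zero] at h
      linear_combination h
    have horth : ∀ v ∈ Vp, ∀ w ∈ Vm, B v w = 0 := by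
      intro v hv w hw
      rw [memp] at hv; rw [memm] at hw
      have h := hiso i₀ v w
      rw [hv, hw, map_neg] at h
      have h3 : (2:F) * B v w = 0 := by linear_combination -h
      rcases mul_eq_zero.mp h3 with h4 | h4
      · exact absurd h4 h2
      · exact h4
    have hpinv : ∀ i, ∀ x ∈ Vp, ρ i x ∈ Vp := by
      intro i x hx
      rw [memp] at hx ⊢
      rw [hcomm i₀ i x, hx]
    have hminv : ∀ i, ∀ x ∈ Vm, ρ i x ∈ Vm := by
      intro i x hx
      rw [memm] at hx ⊢
      rw [hcomm i₀ i x, hx, map_neg]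
    let ρp : ι → Vp →ₗ[F] Vp := fun i => (ρ i).restrict (hpinv i)
    let ρm : ι → Vm →ₗ[F] Vm := fun i => (ρ i).restrict (hminv i)
    let Bp : Vp →ₗ[F] Vp →ₗ[F] F := B.domRestrict₁₂ Vp Vp
    let Bm : Vm →ₗ[F] Vm →ₗ[F] F := B.domRestrict₁₂ Vm Vm
    have hBp : ∀ x y : Vp, Bp x y = B x y :=
      fun x y => LinearMap.domRestrict₁₂_apply B Vp Vp x y
    have hBm : ∀ x y : Vm, Bm x y = B x y :=
      fun x y => LinearMap.domRestrict₁₂_apply B Vm Vm x y
    have hρp : ∀ i (x : Vp), ((ρp i x : Vp) : V) = ρ i x :=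
      fun i x => LinearMap.coe_restrict_apply (hpinv i) x
    have hρm : ∀ i (x : Vm), ((ρm i x : Vm) : V) = ρ i x :=
      fun i x => LinearMap.coe_restrict_apply (hminv i) x
    have hsup : Vp ⊔ Vm = ⊤ := by
      rw [eq_top_iff]
      intro v _
      obtain ⟨a, ha, b, hb, rfl⟩ := hdec v
      exact Submodule.add_mem_sup ha hb
    have hinf' : Vp ⊓ Vm = ⊥ := by
      rw [eq_bot_iff]
      intro v hv
      rw [Submodule.mem_bot]
      exact hinf v hv.1 hv.2
    have hdim : Module.finrank F Vp + Module.finrank F Vm = d := by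
      have h := Submodule.finrank_sup_add_finrank_inf_eq Vp Vm
      rw [hsup, hinf', finrank_bot, add_zero, finrank_top, hd] at h
      exact h.symm
    have hVp : Vp ≠ ⊤ := by
      intro h
      apply hne1
      ext v
      have hv : v ∈ Vp := h ▸ Submodule.mem_top
      rw [LinearMap.id_coe, id_eq]
      exact (memp v).mp hv
    have hVm : Vm ≠ ⊤ := by
      intro h
      apply hne2
      ext v
      have hv : v ∈ Vm := h ▸ Submodule.mem_top
      rw [LinearMap.neg_apply, LinearMap.id_coe, id_eq]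
      exact (memm v).mp hv
    have hlp : Module.finrank F Vp < d := hd ▸ Submodule.finrank_lt hVp
    have hlm : Module.finrank F Vm < d := hd ▸ Submodule.finrank_lt hVm
    have ihp : Nat.card (Set.range ρp) ≤ 2 ^ (Module.finrank F Vp / 2) := by
      refine ih (Module.finrank F Vp) hlp Vp Bp ρp ?_ ?_ ?_ ?_ ?_ rfl
      · intro x
        rw [hBp, halt]
      · intro x hx
        apply Subtype.ext
        rw [Submodule.coe_zero]
        apply hnd
        intro w
        obtain ⟨a, ha, b, hb, rfl⟩ := hdec w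
        have h1 := hx ⟨a, ha⟩
        rw [hBp] at h1
        rw [map_add, show B (x : V) a = 0 from h1, zero_add]
        exact horth x x.2 b hb
      · intro i x
        apply Subtype.ext
        rw [hρp, hρp, hinv]
      · intro i j x
        apply Subtype.ext
        rw [hρp, hρp, hρp, hρp, hcomm]
      · intro i x y
        rw [hBp, hBp, hρp, hρp, hiso]
    have ihm : Nat.card (Set.range ρm) ≤ 2 ^ (Module.finrank F Vm / 2) := by
      refine ih (Module.finrank F Vm) hlm Vm Bm ρm ?_ ?_ ?_ ?_ ?_ rfl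
      · intro x
        rw [hBm, halt]
      · intro x hx
        apply Subtype.ext
        rw [Submodule.coe_zero]
        apply hnd
        intro w
        obtain ⟨a, ha, b, hb, rfl⟩ := hdec w
        have h1 := hx ⟨b, hb⟩
        rw [hBm] at h1
        rw [map_add, show B (x : V) b = 0 from h1, add_zero, hskew a x, horth a ha x x.2,
          neg_zero]
      · intro i x
        apply Subtype.ext
        rw [hρm, hρm, hinv]
      · intro i j x
        apply Subtype.ext
        rw [hρm, hρm, hρm, hρm, hcomm]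
      · intro i x y
        rw [hBm, hBm, hρm, hρm, hiso]
    have hf : ∀ i j, (ρp i, ρm i) = (ρp j, ρm j) → ρ i = ρ j := by
      intro i j hij
      have h1 : ρp i = ρp j := congrArg Prod.fst hij
      have h2' : ρm i = ρm j := congrArg Prod.snd hij
      ext v
      obtain ⟨a, ha, b, hb, rfl⟩ := hdec v
      rw [map_add, map_add]
      have e1 : ρ i a = ρ j a := by
        have h3 := congrArg (fun g : Vp →ₗ[F] Vp => ((g ⟨a, ha⟩ : Vp) : V)) h1
        simpa only [hρp, Subtype.coe_mk] using h3
      have e2 : ρ i b = ρ j b := by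
        have h3 := congrArg (fun g : Vm →ₗ[F] Vm => ((g ⟨b, hb⟩ : Vm) : V)) h2'
        simpa only [hρm, Subtype.coe_mk] using h3
      rw [e1, e2]
    calc Nat.card (Set.range ρ) ≤ Nat.card (Set.range (fun i => (ρp i, ρm i))) :=
          card_range_le' ρ _ hf
      _ ≤ Nat.card (Set.range ρp) * Nat.card (Set.range ρm) := card_range_prod_le ρp ρm
      _ ≤ 2 ^ (Module.finrank F Vp / 2) * 2 ^ (Module.finrank F Vm / 2) :=
          Nat.mul_le_mul ihp ihm
      _ = 2 ^ (Module.finrank F Vp / 2 + Module.finrank F Vm / 2) := (pow_add _ _ _).symm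
      _ ≤ 2 ^ (d / 2) := Nat.pow_le_pow_right (by norm_num) (by omega)

theorem two_ne_zero_of_odd {F : Type*} [Field F] [Fintype F] (hF : Odd (Fintype.card F)) :
    (2 : F) ≠ 0 := by
  intro h
  haveI hc : CharP F 2 := CharTwo.of_one_ne_zero_of_two_eq_zero one_ne_zero h
  have h1 := FiniteField.even_card_of_char_two (ringChar.eq F 2)
  rcases hF with ⟨k, hk⟩
  omega

/-- An elementary abelian `2`-subgroup of `Sp_{2n}(F)`, `|F|` odd, has order at most `2 ^ n`. -/
theorem elab_le {F : Type u} [Field F] [Fintype F] (hF : Odd (Fintype.card F)) (n : ℕ)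
    (E : Subgroup (Matrix.symplecticGroup (Fin n) F))
    (hc : ∀ a ∈ E, ∀ b ∈ E, a * b = b * a) (h2 : ∀ a ∈ E, a * a = 1) :
    Nat.card E ≤ 2 ^ n := by
  classical
  have h2F : (2 : F) ≠ 0 := two_ne_zero_of_odd hF
  let B : (Fin n ⊕ Fin n → F) →ₗ[F] (Fin n ⊕ Fin n → F) →ₗ[F] F :=
    -(Matrix.toBilin' (Matrix.J (Fin n) F))
  have hB : ∀ v w, B v w = Helper22.spStd (Fin n) v w := by
    intro v w
    show (-(Matrix.toBilin' (Matrix.J (Fin n) F))) v w = _
    rw [LinearMap.neg_apply, LinearMap.neg_apply, Helper22.toBilin'_J_apply, neg_neg]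
  let ρ : E → (Fin n ⊕ Fin n → F) →ₗ[F] (Fin n ⊕ Fin n → F) :=
    fun e => Helper22.spLin (Fin n) (e : Matrix.symplecticGroup (Fin n) F)
  have hρinj : Function.Injective ρ :=
    fun a b h => Subtype.ext (Helper22.spLin_injective (Fin n) h)
  have hkey := key h2F (ι := E) (2 * n) (Fin n ⊕ Fin n → F) B ρ ?_ ?_ ?_ ?_ ?_ ?_
  · rw [← Nat.card_congr (Equiv.ofInjective ρ hρinj),
      Nat.mul_div_cancel_left n (by norm_num : 0 < 2)] at hkey
    exact hkey
  · intro v
    rw [hB, Helper22.spStd]
    exact Finset.sum_eq_zero (fun i _ => by ring)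
  · intro v hv
    funext x
    rcases x with i | i
    · have h := hv (Pi.single (Sum.inr i) 1)
      rw [hB, Helper22.spStd] at h
      show v (Sum.inl i) = 0
      simpa [Pi.single_apply] using h
    · have h := hv (Pi.single (Sum.inl i) 1)
      rw [hB, Helper22.spStd] at h
      show v (Sum.inr i) = 0
      simpa [Pi.single_apply] using h
  · intro e v
    have h := h2 e e.2
    have h3 : (Helper22.spLin (Fin n) (e : Matrix.symplecticGroup (Fin n) F)) *
        (Helper22.spLin (Fin n) (e : Matrix.symplecticGroup (Fin n) F)) = 1 := by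
      rw [← map_mul, h, map_one]
    exact congrArg (fun g : Module.End F (Fin n ⊕ Fin n → F) => g v) h3
  · intro e e' v
    have h := hc e e.2 e' e'.2
    have h3 : (Helper22.spLin (Fin n) (e : Matrix.symplecticGroup (Fin n) F)) *
        (Helper22.spLin (Fin n) (e' : Matrix.symplecticGroup (Fin n) F)) =
        (Helper22.spLin (Fin n) (e' : Matrix.symplecticGroup (Fin n) F)) *
        (Helper22.spLin (Fin n) (e : Matrix.symplecticGroup (Fin n) F)) := by
      rw [← map_mul, ← map_mul, h]
    exact congrArg (fun g : Module.End F (Fin n ⊕ Fin n → F) => g v) h3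
  · intro e v w
    rw [hB, hB]
    exact Helper22.spLin_pres (Fin n) _ v w
  · rw [Module.finrank_fintype_fun_eq_card, Fintype.card_sum, Fintype.card_fin]
    ring

end Cfsg.Agent.H6SpSyl
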