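import Mathlib
import Cfsg.Agent.Helper22.SpDer1

set_option autoImplicit false

namespace Cfsg.Agent.H6SpSyl

open Matrix

variable {F : Type*} [Field F] {n : ℕ}

/-- block-diagonal matrix with `2 × 2` blocks -/
def bd (g : Fin n → Matrix (Fin 1 ⊕ Fin 1) (Fin 1 ⊕ Fin 1) F) :
    Matrix (Fin n ⊕ Fin n) (Fin n ⊕ Fin n) F :=
  Matrix.fromBlocks (Matrix.diagonal fun i => g i (Sum.inl 0) (Sum.inl 0))
    (Matrix.diagonal fun i => g i (Sum.inl 0) (Sum.inr 0))
    (Matrix.diagonal fun i => g i (Sum.inr 0) (Sum.inl 0))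
    (Matrix.diagonal fun i => g i (Sum.inr 0) (Sum.inr 0))

theorem bd_mulVec (g : Fin n → Matrix (Fin 1 ⊕ Fin 1) (Fin 1 ⊕ Fin 1) F)
    (v : Fin n ⊕ Fin n → F) :
    bd g *ᵥ v = Sum.elim
      (fun i => g i (Sum.inl 0) (Sum.inl 0) * v (Sum.inl i) +
        g i (Sum.inl 0) (Sum.inr 0) * v (Sum.inr i))
      (fun i => g i (Sum.inr 0) (Sum.inl 0) * v (Sum.inl i) +
        g i (Sum.inr 0) (Sum.inr 0) * v (Sum.inr i)) := by
  rw [bd, Matrix.fromBlocks_mulVec]
  funext x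
  rcases x with i | i
  · simp only [Sum.elim_inl, Pi.add_apply, Matrix.mulVec_diagonal, Function.comp_apply]
  · simp only [Sum.elim_inr, Pi.add_apply, Matrix.mulVec_diagonal, Function.comp_apply]

theorem sp1_det (A : Matrix (Fin 1 ⊕ Fin 1) (Fin 1 ⊕ Fin 1) F)
    (hA : A ∈ Matrix.symplecticGroup (Fin 1) F) :
    A (Sum.inl 0) (Sum.inl 0) * A (Sum.inr 0) (Sum.inr 0) -
      A (Sum.inl 0) (Sum.inr 0) * A (Sum.inr 0) (Sum.inl 0) = 1 := by
  have h := (Helper22.mem_sp_iff (Fin 1) A).mp hA (Pi.single (Sum.inl 0) 1)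
    (Pi.single (Sum.inr 0) 1)
  simp [Helper22.spStd, Matrix.mulVec, dotProduct, Fintype.sum_sum_type, Pi.single_apply] at h
  linear_combination h

theorem bd_mem (g : Fin n → Matrix (Fin 1 ⊕ Fin 1) (Fin 1 ⊕ Fin 1) F)
    (hg : ∀ i, g i ∈ Matrix.symplecticGroup (Fin 1) F) :
    bd g ∈ Matrix.symplecticGroup (Fin n) F := by
  rw [Helper22.mem_sp_iff]
  intro v w
  rw [bd_mulVec, bd_mulVec, Helper22.spStd, Helper22.spStd]
  apply Finset.sum_congr rfl
  intro i _
  simp only [Sum.elim_inl, Sum.elim_inr]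
  linear_combination (v (Sum.inl i) * w (Sum.inr i) - v (Sum.inr i) * w (Sum.inl i)) *
    (sp1_det (g i) (hg i))

theorem bd_mul (g h : Fin n → Matrix (Fin 1 ⊕ Fin 1) (Fin 1 ⊕ Fin 1) F) :
    bd (fun i => g i * h i) = bd g * bd h := by
  apply Matrix.mulVec_injective
  funext v
  rw [← Matrix.mulVec_mulVec, bd_mulVec, bd_mulVec, bd_mulVec]
  funext x
  rcases x with i | i
  · simp only [Sum.elim_inl, Sum.elim_inr, Matrix.mul_apply, Fintype.sum_sum_type,
      Finset.univ_unique, Finset.sum_singleton, Fin.default_eq_zero]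
    ring
  · simp only [Sum.elim_inl, Sum.elim_inr, Matrix.mul_apply, Fintype.sum_sum_type,
      Finset.univ_unique, Finset.sum_singleton, Fin.default_eq_zero]
    ring

theorem bd_one : bd (fun _ : Fin n => (1 : Matrix (Fin 1 ⊕ Fin 1) (Fin 1 ⊕ Fin 1) F)) = 1 := by
  apply Matrix.mulVec_injective
  funext v
  rw [bd_mulVec, Matrix.one_mulVec]
  funext x
  rcases x with i | i
  · simp
  · simp

/-- the block-diagonal embedding -/
def Psi : (Fin n → Matrix.symplecticGroup (Fin 1) F) →* Matrix.symplecticGroup (Fin n) F where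
  toFun g := ⟨bd (fun i => (g i : Matrix (Fin 1 ⊕ Fin 1) (Fin 1 ⊕ Fin 1) F)),
    bd_mem _ (fun i => (g i).2)⟩
  map_one' := Subtype.ext bd_one
  map_mul' g h := Subtype.ext (bd_mul _ _)

theorem Psi_coe (g : Fin n → Matrix.symplecticGroup (Fin 1) F) :
    ((Psi g : Matrix.symplecticGroup (Fin n) F) : Matrix (Fin n ⊕ Fin n) (Fin n ⊕ Fin n) F) =
      bd (fun i => (g i : Matrix (Fin 1 ⊕ Fin 1) (Fin 1 ⊕ Fin 1) F)) := rfl

theorem Psi_injective : Function.Injective (Psi (F := F) (n := n)) := by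
  intro g h hgh
  have h0 : bd (fun i => (g i : Matrix (Fin 1 ⊕ Fin 1) (Fin 1 ⊕ Fin 1) F)) =
      bd (fun i => (h i : Matrix (Fin 1 ⊕ Fin 1) (Fin 1 ⊕ Fin 1) F)) := congrArg Subtype.val hgh
  rw [bd, bd, Matrix.fromBlocks_inj] at h0
  obtain ⟨h1, h2, h3, h4⟩ := h0
  rw [Matrix.diagonal_eq_diagonal_iff] at h1 h2 h3 h4
  funext i
  apply Subtype.ext
  ext s t
  rcases s with a | a <;> rcases t with b | b
  · rw [Subsingleton.elim a 0, Subsingleton.elim b 0]; exact h1 i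
  · rw [Subsingleton.elim a 0, Subsingleton.elim b 0]; exact h2 i
  · rw [Subsingleton.elim a 0, Subsingleton.elim b 0]; exact h3 i
  · rw [Subsingleton.elim a 0, Subsingleton.elim b 0]; exact h4 i

/-- permutation matrix (acting by `v ↦ v ∘ σ⁻¹`) -/
def pmat (σ : Equiv.Perm (Fin n)) : Matrix (Fin n) (Fin n) F :=
  Matrix.of fun i j => if σ.symm i = j then 1 else 0

theorem pmat_mulVec (σ : Equiv.Perm (Fin n)) (u : Fin n → F) (i : Fin n) :
    (pmat σ *ᵥ u) i = u (σ.symm i) := by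
  simp [pmat, Matrix.mulVec, dotProduct]

def pm (σ : Equiv.Perm (Fin n)) : Matrix (Fin n ⊕ Fin n) (Fin n ⊕ Fin n) F :=
  Matrix.fromBlocks (pmat σ) 0 0 (pmat σ)

theorem pm_mulVec (σ : Equiv.Perm (Fin n)) (v : Fin n ⊕ Fin n → F) :
    pm σ *ᵥ v = fun x => v (Sum.map σ.symm σ.symm x) := by
  rw [pm, Matrix.fromBlocks_mulVec]
  funext x
  rcases x with i | i
  · simp only [Sum.elim_inl, Pi.add_apply, pmat_mulVec, Matrix.zero_mulVec, Pi.zero_apply,
      add_zero, Function.comp_apply, Sum.map_inl]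
  · simp only [Sum.elim_inr, Pi.add_apply, pmat_mulVec, Matrix.zero_mulVec, Pi.zero_apply,
      zero_add, Function.comp_apply, Sum.map_inr]

theorem pm_mem (σ : Equiv.Perm (Fin n)) :
    (pm σ : Matrix (Fin n ⊕ Fin n) (Fin n ⊕ Fin n) F) ∈ Matrix.symplecticGroup (Fin n) F := by
  rw [Helper22.mem_sp_iff]
  intro v w
  rw [pm_mulVec, pm_mulVec, Helper22.spStd, Helper22.spStd]
  exact Equiv.sum_comp σ.symm
    (fun i => v (Sum.inl i) * w (Sum.inr i) - v (Sum.inr i) * w (Sum.inl i))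

theorem pm_mul (σ τ : Equiv.Perm (Fin n)) :
    (pm (σ * τ) : Matrix (Fin n ⊕ Fin n) (Fin n ⊕ Fin n) F) = pm σ * pm τ := by
  apply Matrix.mulVec_injective
  funext v
  rw [← Matrix.mulVec_mulVec, pm_mulVec, pm_mulVec, pm_mulVec]
  funext x
  rcases x with i | i <;> rfl

theorem pm_one : (pm (1 : Equiv.Perm (Fin n)) : Matrix (Fin n ⊕ Fin n) (Fin n ⊕ Fin n) F) = 1 := by
  apply Matrix.mulVec_injective
  funext v
  rw [pm_mulVec, Matrix.one_mulVec]
  funext x
  rcases x with i | i <;> rfl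

/-- the permutation embedding -/
def Pie : Equiv.Perm (Fin n) →* Matrix.symplecticGroup (Fin n) F where
  toFun σ := ⟨pm σ, pm_mem σ⟩
  map_one' := Subtype.ext pm_one
  map_mul' σ τ := Subtype.ext (pm_mul σ τ)

theorem Pie_coe (σ : Equiv.Perm (Fin n)) :
    ((Pie σ : Matrix.symplecticGroup (Fin n) F) : Matrix (Fin n ⊕ Fin n) (Fin n ⊕ Fin n) F) =
      pm σ := rfl

theorem pmat_inj (σ τ : Equiv.Perm (Fin n))
    (h : (pmat σ : Matrix (Fin n) (Fin n) F) = pmat τ) : σ = τ := by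
  have h1 : σ.symm = τ.symm := by
    ext i
    have h2 := congrFun (congrFun h i) (σ.symm i)
    simp only [pmat, Matrix.of_apply, if_true] at h2
    by_contra hne
    have hne' : ¬ (τ.symm i = σ.symm i) := fun h3 => hne (congrArg Fin.val h3.symm)
    rw [if_neg hne'] at h2
    exact one_ne_zero h2
  have := congrArg Equiv.symm h1
  simpa using this

theorem Pie_injective : Function.Injective (Pie (F := F) (n := n)) := by
  intro σ τ h
  have h0 : (pm σ : Matrix (Fin n ⊕ Fin n) (Fin n ⊕ Fin n) F) = pm τ := congrArg Subtype.val h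
  rw [pm, pm, Matrix.fromBlocks_inj] at h0
  exact pmat_inj σ τ h0.1

theorem Pie_Psi (σ : Equiv.Perm (Fin n)) (g : Fin n → Matrix.symplecticGroup (Fin 1) F) :
    Pie σ * Psi g = Psi (fun i => g (σ.symm i)) * Pie σ := by
  apply Subtype.ext
  show pm σ * bd (fun i => (g i : Matrix (Fin 1 ⊕ Fin 1) (Fin 1 ⊕ Fin 1) F)) =
    bd (fun i => (g (σ.symm i) : Matrix (Fin 1 ⊕ Fin 1) (Fin 1 ⊕ Fin 1) F)) * pm σ
  apply Matrix.mulVec_injective
  funext v
  rw [← Matrix.mulVec_mulVec, ← Matrix.mulVec_mulVec, pm_mulVec, bd_mulVec, bd_mulVec, pm_mulVec]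
  funext x
  rcases x with i | i <;> rfl

theorem Psi_eq_Pie (σ : Equiv.Perm (Fin n)) (g : Fin n → Matrix.symplecticGroup (Fin 1) F)
    (h : Psi g = Pie σ) : σ = 1 := by
  have h0 : bd (fun i => (g i : Matrix (Fin 1 ⊕ Fin 1) (Fin 1 ⊕ Fin 1) F)) = pm σ :=
    congrArg Subtype.val h
  rw [bd, pm, Matrix.fromBlocks_inj] at h0
  have h1 := h0.1
  have h2 : σ.symm = 1 := by
    ext i
    have h3 := congrFun (congrFun h1 i) (σ.symm i)
    simp only [pmat, Matrix.of_apply, if_true] at h3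
    by_contra hne
    have hne' : i ≠ σ.symm i := fun h4 => hne (congrArg Fin.val h4.symm)
    rw [Matrix.diagonal_apply_ne _ hne'] at h3
    exact zero_ne_one h3
  have h5 : σ⁻¹ = 1 := h2
  exact inv_eq_one.mp h5

end Cfsg.Agent.H6SpSyl
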