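import Mathlib
import Cfsg.Agent.Helper6.SpSylA
import Cfsg.Agent.Helper6.SpSylB
import Cfsg.Agent.Helper6.SpCard

set_option autoImplicit false

namespace Cfsg.Agent.H6SpSyl

open Matrix

theorem lte (q : ℕ) (hq : Odd q) (hq1 : 1 < q) (m : ℕ) (hm : m ≠ 0) :
    padicValNat 2 (q ^ (2 * m) - 1) = padicValNat 2 (q ^ 2 - 1) + padicValNat 2 m := by
  have hx : ¬ 2 ∣ q := by
    rcases hq with ⟨k, hk⟩; omega
  have hxy : 2 ∣ q - 1 := by
    rcases hq with ⟨k, hk⟩; omega
  have h1 := padicValNat.pow_two_sub_pow (x := q) (y := 1) hq1 hxy hx (n := 2 * m) (by omega)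
    (even_two_mul m)
  have h2 := padicValNat.pow_two_sub_pow (x := q) (y := 1) hq1 hxy hx (n := 2) (by norm_num)
    even_two
  rw [one_pow] at h1 h2
  have h3 : padicValNat 2 (2 * m) = 1 + padicValNat 2 m := by
    rw [padicValNat.mul (by norm_num) hm, padicValNat_self]
  have h4 : padicValNat 2 2 = 1 := padicValNat_self
  rw [h3] at h1
  rw [h4] at h2
  omega

theorem val_prod (q : ℕ) (hq : Odd q) (hq1 : 1 < q) (n : ℕ) :
    padicValNat 2 (∏ i ∈ Finset.range n, (q ^ (2 * (i + 1)) - 1)) =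
      n * padicValNat 2 (q ^ 2 - 1) + padicValNat 2 (n.factorial) := by
  have hpos : ∀ i, q ^ (2 * (i + 1)) - 1 ≠ 0 := by
    intro i
    have h1 : 1 < q ^ (2 * (i + 1)) := Nat.one_lt_pow (by omega) hq1
    omega
  induction n with
  | zero => simp
  | succ k ih =>
    have hprod : ∏ i ∈ Finset.range k, (q ^ (2 * (i + 1)) - 1) ≠ 0 :=
      Finset.prod_ne_zero_iff.mpr (fun i _ => hpos i)
    rw [Finset.prod_range_succ, padicValNat.mul hprod (hpos k), ih, Nat.factorial_succ,
      padicValNat.mul (by omega) (Nat.factorial_ne_zero k), lte q hq hq1 (k + 1) (by omega)]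
    ring

theorem val_sp {F : Type*} [Field F] [Fintype F] (hF : Odd (Fintype.card F)) (n : ℕ) :
    padicValNat 2 (Nat.card (Matrix.symplecticGroup (Fin n) F)) =
      n * padicValNat 2 (Nat.card (Matrix.symplecticGroup (Fin 1) F)) +
        padicValNat 2 n.factorial := by
  have hq1 : 1 < Fintype.card F := Fintype.one_lt_card
  have hx : ¬ 2 ∣ Fintype.card F := by
    rcases hF with ⟨k, hk⟩; omega
  have e : ∀ m, padicValNat 2 (Fintype.card F ^ (m ^ 2) *
      ∏ i ∈ Finset.range m, (Fintype.card F ^ (2 * (i + 1)) - 1)) =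
      m * padicValNat 2 (Fintype.card F ^ 2 - 1) + padicValNat 2 m.factorial := by
    intro m
    have hpos : ∀ i, Fintype.card F ^ (2 * (i + 1)) - 1 ≠ 0 := by
      intro i
      have h1 : 1 < Fintype.card F ^ (2 * (i + 1)) := Nat.one_lt_pow (by omega) hq1
      omega
    rw [padicValNat.mul (pow_ne_zero _ (by omega))
      (Finset.prod_ne_zero_iff.mpr (fun i _ => hpos i)), padicValNat.pow,
      padicValNat.eq_zero_of_not_dvd hx, mul_zero, zero_add, val_prod _ hF hq1]
  rw [Cfsg.Agent.Helper6.sp_card rfl n, Cfsg.Agent.Helper6.sp_card rfl 1, e n, e 1,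
    Nat.factorial_one, padicValNat_one_right, add_zero, one_mul]

theorem mem_normalizer_of_conj {G : Type*} [Group G] (H : Subgroup G) (g : G)
    (h1 : ∀ x ∈ H, g * x * g⁻¹ ∈ H) (h2 : ∀ x ∈ H, g⁻¹ * x * g ∈ H) :
    g ∈ Subgroup.normalizer (H : Set G) := by
  rw [Subgroup.mem_normalizer_iff]
  intro x
  constructor
  · exact h1 x
  · intro hx
    have h3 := h2 _ hx
    simpa [mul_assoc] using h3

/-- A Sylow `2`-subgroup of `Sp_{2n}(F)` (`|F|` odd) together with a normal elementary abelian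
subgroup of order `2 ^ n`. -/
theorem exists_sylow_normal {F : Type*} [Field F] [Fintype F] (hF : Odd (Fintype.card F))
    (n : ℕ) :
    ∃ (T : Sylow 2 (Matrix.symplecticGroup (Fin n) F))
      (D : Subgroup (Matrix.symplecticGroup (Fin n) F)),
      D ≤ (T : Subgroup (Matrix.symplecticGroup (Fin n) F)) ∧
      (∀ t ∈ (T : Subgroup (Matrix.symplecticGroup (Fin n) F)), ∀ d ∈ D, t * d * t⁻¹ ∈ D) ∧
      (∀ a ∈ D, ∀ b ∈ D, a * b = b * a) ∧ (∀ a ∈ D, a * a = 1) ∧ Nat.card D = 2 ^ n := by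
  classical
  have h2F : (2 : F) ≠ 0 := two_ne_zero_of_odd hF
  -- the central involution of `Sp_2`
  let z : Matrix.symplecticGroup (Fin 1) F :=
    ⟨-1, SymplecticGroup.neg_mem (one_mem _)⟩
  have hz2 : z * z = 1 := by
    apply Subtype.ext
    show (-1 : Matrix (Fin 1 ⊕ Fin 1) (Fin 1 ⊕ Fin 1) F) * (-1) = 1
    simp
  have hz1 : z ≠ 1 := by
    intro h
    have h1 : (-1 : Matrix (Fin 1 ⊕ Fin 1) (Fin 1 ⊕ Fin 1) F) = 1 := congrArg Subtype.val h
    have h3 := congrFun (congrFun h1 (Sum.inl 0)) (Sum.inl 0)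
    rw [Matrix.neg_apply, Matrix.one_apply_eq] at h3
    apply h2F
    linear_combination -h3
  have hzc : ∀ g : Matrix.symplecticGroup (Fin 1) F, g * z = z * g := by
    intro g
    apply Subtype.ext
    show (g : Matrix (Fin 1 ⊕ Fin 1) (Fin 1 ⊕ Fin 1) F) * (-1) = (-1) * g
    simp
  let Z : Subgroup (Matrix.symplecticGroup (Fin 1) F) := Subgroup.zpowers z
  have hZcen : ∀ w ∈ Z, ∀ g : Matrix.symplecticGroup (Fin 1) F, g * w = w * g := by
    intro w hw
    have h1 : Z ≤ Subgroup.center (Matrix.symplecticGroup (Fin 1) F) :=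
      (Subgroup.zpowers_le).mpr (Subgroup.mem_center_iff.mpr hzc)
    exact Subgroup.mem_center_iff.mp (h1 hw)
  have hZsq : ∀ w ∈ Z, w * w = 1 := by
    intro w hw
    obtain ⟨k, rfl⟩ := Subgroup.mem_zpowers_iff.mp hw
    rw [← _root_.zpow_add, ← two_mul, _root_.zpow_mul, _root_.zpow_two, hz2, _root_.one_zpow]
  have hord : orderOf z = 2 := orderOf_eq_prime (by rw [pow_two, hz2]) hz1
  have hZcard : Nat.card Z = 2 := by
    rw [Nat.card_zpowers, hord]
  have hZp : IsPGroup 2 Z := IsPGroup.of_card (n := 1) (by rw [hZcard, pow_one])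
  obtain ⟨Q, hZQ⟩ := hZp.exists_le_sylow
  set v := padicValNat 2 (Nat.card (Matrix.symplecticGroup (Fin 1) F)) with hv
  have hQcard : Nat.card (Q : Subgroup (Matrix.symplecticGroup (Fin 1) F)) = 2 ^ v := by
    rw [Sylow.card_eq_multiplicity, Nat.factorization_def _ Nat.prime_two]
  let R : Sylow 2 (Equiv.Perm (Fin n)) := Classical.arbitrary _
  set b := padicValNat 2 n.factorial with hb
  have hRcard : Nat.card (R : Subgroup (Equiv.Perm (Fin n))) = 2 ^ b := by
    rw [Sylow.card_eq_multiplicity, Nat.factorization_def _ Nat.prime_two, Nat.card_perm,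
      Nat.card_fin]
  -- the two subgroups
  let ψQ : (Fin n → ↥(Q : Subgroup (Matrix.symplecticGroup (Fin 1) F))) →*
      Matrix.symplecticGroup (Fin n) F :=
    (Psi (F := F) (n := n)).comp (MonoidHom.pi fun i =>
      ((Q : Subgroup (Matrix.symplecticGroup (Fin 1) F)).subtype).comp
        (Pi.evalMonoidHom (fun _ : Fin n => ↥(Q : Subgroup (Matrix.symplecticGroup (Fin 1) F))) i))
  have hψQ : ∀ q, ψQ q = Psi (fun i => (q i : Matrix.symplecticGroup (Fin 1) F)) := fun q => rfl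
  have hψQinj : Function.Injective ψQ := by
    intro q q' h
    rw [hψQ, hψQ] at h
    have h1 := Psi_injective h
    funext i
    exact Subtype.ext (congrFun h1 i)
  let δ : (Fin n → ↥Z) →* Matrix.symplecticGroup (Fin n) F :=
    (Psi (F := F) (n := n)).comp (MonoidHom.pi fun i =>
      (Z.subtype).comp (Pi.evalMonoidHom (fun _ : Fin n => ↥Z) i))
  have hδ : ∀ d, δ d = Psi (fun i => (d i : Matrix.symplecticGroup (Fin 1) F)) := fun d => rfl
  have hδinj : Function.Injective δ := by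
    intro q q' h
    rw [hδ, hδ] at h
    have h1 := Psi_injective h
    funext i
    exact Subtype.ext (congrFun h1 i)
  let P1 : Subgroup (Matrix.symplecticGroup (Fin n) F) := ψQ.range
  let P2 : Subgroup (Matrix.symplecticGroup (Fin n) F) :=
    (R : Subgroup (Equiv.Perm (Fin n))).map (Pie (F := F) (n := n))
  let D : Subgroup (Matrix.symplecticGroup (Fin n) F) := δ.range
  have hP1card : Nat.card P1 = 2 ^ (v * n) := by
    rw [← Nat.card_congr (MonoidHom.ofInjective hψQinj).toEquiv, Nat.card_fun, hQcard,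
      Nat.card_fin, pow_mul]
  have hP2card : Nat.card P2 = 2 ^ b := by
    rw [Subgroup.card_map_of_injective Pie_injective, hRcard]
  have hDcard : Nat.card D = 2 ^ n := by
    rw [← Nat.card_congr (MonoidHom.ofInjective hδinj).toEquiv, Nat.card_fun, hZcard,
      Nat.card_fin]
  have hP1p : IsPGroup 2 P1 := IsPGroup.of_card hP1card
  have hP2p : IsPGroup 2 P2 := IsPGroup.of_card hP2card
  -- conjugation formulas
  have hconj : ∀ (σ : Equiv.Perm (Fin n)) (g : Fin n → Matrix.symplecticGroup (Fin 1) F),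
      Pie σ * Psi g * (Pie σ)⁻¹ = Psi (fun i => g (σ.symm i)) := by
    intro σ g
    rw [Pie_Psi, mul_inv_cancel_right]
  have hP2P1 : ∀ a ∈ P2, ∀ x ∈ P1, a * x * a⁻¹ ∈ P1 := by
    rintro _ ⟨σ, _, rfl⟩ _ ⟨q, rfl⟩
    rw [hψQ, hconj]
    exact ⟨fun i => q (σ.symm i), rfl⟩
  have hP2D : ∀ a ∈ P2, ∀ x ∈ D, a * x * a⁻¹ ∈ D := by
    rintro _ ⟨σ, _, rfl⟩ _ ⟨d, rfl⟩
    rw [hδ, hconj]
    exact ⟨fun i => d (σ.symm i), rfl⟩
  have hP1D : ∀ a ∈ P1, ∀ x ∈ D, a * x * a⁻¹ = x := by
    rintro _ ⟨q, rfl⟩ _ ⟨d, rfl⟩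
    rw [hψQ, hδ, ← map_mul, ← map_inv, ← map_mul]
    congr 1
    funext i
    show (q i : Matrix.symplecticGroup (Fin 1) F) * (d i : Matrix.symplecticGroup (Fin 1) F) *
      (q i : Matrix.symplecticGroup (Fin 1) F)⁻¹ = (d i : Matrix.symplecticGroup (Fin 1) F)
    rw [hZcen _ (d i).2, mul_inv_cancel_right]
  have hDP1 : D ≤ P1 := by
    rintro _ ⟨d, rfl⟩
    exact ⟨fun i => ⟨(d i : Matrix.symplecticGroup (Fin 1) F), hZQ (d i).2⟩, rfl⟩
  have hN12 : P2 ≤ Subgroup.normalizer (P1 : Set (Matrix.symplecticGroup (Fin n) F)) := by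
    intro a ha
    apply mem_normalizer_of_conj
    · exact hP2P1 a ha
    · intro x hx
      have h1 := hP2P1 a⁻¹ (inv_mem ha) x hx
      rwa [inv_inv] at h1
  let T0 : Subgroup (Matrix.symplecticGroup (Fin n) F) := P1 ⊔ P2
  have hT0p : IsPGroup 2 T0 := IsPGroup.to_sup_of_normal_left' hP1p hP2p hN12
  have hint : ∀ c, c ∈ P1 → c ∈ P2 → c = 1 := by
    rintro _ ⟨q, rfl⟩ ⟨σ, _, hσ⟩
    rw [hψQ] at hσ ⊢
    have h1 := Psi_eq_Pie σ _ hσ.symm
    rw [← hσ, h1, map_one]
  have hcardle : Nat.card P1 * Nat.card P2 ≤ Nat.card T0 := by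
    rw [← Nat.card_prod]
    apply Nat.card_le_card_of_injective (fun p : P1 × P2 =>
      (⟨(p.1 : Matrix.symplecticGroup (Fin n) F) * (p.2 : Matrix.symplecticGroup (Fin n) F),
        mul_mem (le_sup_left (a := P1) (b := P2) p.1.2) (le_sup_right (a := P1) (b := P2) p.2.2)⟩ : T0))
    rintro ⟨a, b'⟩ ⟨a', b''⟩ h
    have h0 : (a : Matrix.symplecticGroup (Fin n) F) * b' = a' * b'' := congrArg Subtype.val h
    have hc1 : ((a' : Matrix.symplecticGroup (Fin n) F))⁻¹ * a ∈ P1 := mul_mem (inv_mem a'.2) a.2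
    have hc2 : ((a' : Matrix.symplecticGroup (Fin n) F))⁻¹ * a =
        (b'' : Matrix.symplecticGroup (Fin n) F) * (b' : Matrix.symplecticGroup (Fin n) F)⁻¹ := by
      rw [inv_mul_eq_iff_eq_mul, ← mul_assoc, ← h0, mul_inv_cancel_right]
    have hc3 : ((a' : Matrix.symplecticGroup (Fin n) F))⁻¹ * a ∈ P2 := by
      rw [hc2]; exact mul_mem b''.2 (inv_mem b'.2)
    have hc4 := hint _ hc1 hc3
    have ha : (a : Matrix.symplecticGroup (Fin n) F) = a' := by
      rw [inv_mul_eq_one] at hc4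
      exact hc4.symm
    have hb' : (b' : Matrix.symplecticGroup (Fin n) F) = b'' := by
      rw [ha] at h0
      exact mul_left_cancel h0
    exact Prod.ext (Subtype.ext ha) (Subtype.ext hb')
  obtain ⟨c, hc⟩ := IsPGroup.iff_card.mp hT0p
  have hpos : Nat.card (Matrix.symplecticGroup (Fin n) F) ≠ 0 := Nat.card_pos.ne'
  have hc1 : v * n + b ≤ c := by
    rw [hP1card, hP2card, hc, ← pow_add] at hcardle
    exact (Nat.pow_le_pow_iff_right (by norm_num)).mp hcardle
  have hc2 : c ≤ padicValNat 2 (Nat.card (Matrix.symplecticGroup (Fin n) F)) := by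
    rw [← padicValNat_dvd_iff_le hpos, ← hc]
    exact Subgroup.card_subgroup_dvd_card T0
  have hc3 : c = padicValNat 2 (Nat.card (Matrix.symplecticGroup (Fin n) F)) := by
    rw [val_sp hF n, ← hv, ← hb] at hc2 ⊢
    have : n * v = v * n := mul_comm _ _
    omega
  have hT0card : Nat.card T0 =
      2 ^ (Nat.card (Matrix.symplecticGroup (Fin n) F)).factorization 2 := by
    rw [hc, hc3, Nat.factorization_def _ Nat.prime_two]
  refine ⟨Sylow.ofCard T0 hT0card, D, ?_, ?_, ?_, ?_, hDcard⟩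
  · rw [Sylow.coe_ofCard]
    exact hDP1.trans le_sup_left
  · rw [Sylow.coe_ofCard]
    have hND : T0 ≤ Subgroup.normalizer (D : Set (Matrix.symplecticGroup (Fin n) F)) := by
      apply sup_le
      · intro a ha
        apply mem_normalizer_of_conj
        · intro x hx
          rw [hP1D a ha x hx]; exact hx
        · intro x hx
          have h1 := hP1D a⁻¹ (inv_mem ha) x hx
          rw [inv_inv] at h1
          rw [h1]; exact hx
      · intro a ha
        apply mem_normalizer_of_conj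
        · exact hP2D a ha
        · intro x hx
          have h1 := hP2D a⁻¹ (inv_mem ha) x hx
          rwa [inv_inv] at h1
    intro t ht d hd
    exact (Subgroup.mem_normalizer_iff.mp (hND ht) d).mp hd
  · rintro _ ⟨d, rfl⟩ _ ⟨d', rfl⟩
    rw [hδ, hδ, ← map_mul, ← map_mul]
    congr 1
    funext i
    exact hZcen _ (d' i).2 _
  · rintro _ ⟨d, rfl⟩
    rw [hδ, ← map_mul]
    have h1 : (fun i => (d i : Matrix.symplecticGroup (Fin 1) F)) *
        (fun i => (d i : Matrix.symplecticGroup (Fin 1) F)) = 1 := by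
      funext i
      exact hZsq _ (d i).2
    rw [h1, map_one]

end Cfsg.Agent.H6SpSyl
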